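import Groth.Agent.Lib.CurvePoint
import Groth.Agent.Curves16.PointReg
import Groth.Agent.AmpleX.Generated
import Groth.Agent.VarAmp.Exists
import Groth.Agent.S1561
import Groth.Agent.S0051
import Groth.Agent.Pic13Lib.DegSection
import Groth.Agent.VarAmp.NoCurves

/-!
Twisting by a regular closed point on a possibly singular curve over an algebraically closed field.
-/

noncomputable section

set_option linter.style.haveILetI false
set_option linter.unusedSectionVars false
set_option backward.isDefEq.respectTransparency false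
set_option backward.isDefEq.respectTransparency.types false

universe u

open CategoryTheory CategoryTheory.Limits AlgebraicGeometry TopologicalSpace Opposite
open Groth.Agent.PnCoh.Finite (mapLin)

namespace Groth.Agent.VarPicOne.Twist

open Groth.Agent Groth.Agent.CurveBundle Groth.Agent.CurveSlope Groth.Agent.CurveStable
open Groth.Agent.CurvePoint (ptIdeal ptMod support_quot_subset smul_quot_eq_zero not_subsingleton_stalk smul_tensor_eq_zero shortExact_of_iso_mid)

variable {X : Scheme.{u}} (p : X) (hp : IsClosed ({p} : Set X))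
variable (k : Type u) [Field k] [IsAlgClosed k] [X.Over (Spec (CommRingCat.of k))] [IsIntegral X]
  [IsProper (X ↘ Spec (CommRingCat.of k))]

include k in
theorem isCoh_quot : Coh.IsCoh (ClSub.quotMod (ptIdeal p hp)) := by
  haveI := CurveCohLib.isNoetherian_of_proper (k := k) (X := X)
  exact ParShLib.isCoh_quotMod (ptIdeal p hp)

theorem closed_support : ∀ x ∈ CohB1.support (ClSub.quotMod (ptIdeal p hp)), IsClosed ({x} : Set X) :=
  fun _ hx => Set.mem_singleton_iff.1 (support_quot_subset p hp hx) ▸ hp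

theorem euler_quot : Curv2.euler k X (ClSub.quotMod (ptIdeal p hp)) = 1 := by
  classical
  haveI := CurveCohLib.isNoetherian_of_proper (k := k) (X := X)
  let Q := ClSub.quotMod (ptIdeal p hp)
  obtain ⟨h, hfin⟩ := CurveCohLib.euler_eq_sum_stalks (k := k) (isCoh_quot p hp k)
    (closed_support p hp) {p} (by simpa using support_quot_subset p hp)
  rw [h, Finset.sum_singleton]
  letI := CurveCohLib.stalkModuleK k Q p
  haveI := hfin p (Finset.mem_singleton_self p)
  haveI : Nontrivial (Q.presheaf.stalk p) := not_subsingleton_iff_nontrivial.1 (not_subsingleton_stalk p hp)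
  obtain ⟨q₀, hq₀⟩ : ∃ q₀ : Q.presheaf.stalk p, ∀ q, ∃ a : X.presheaf.stalk p, q = a • q₀ :=
    ParShLib.exists_germ_smul (ptIdeal p hp) p
  let L : k →ₗ[k] Q.presheaf.stalk p :=
    { toFun := fun c => Curv2.stalkMap k X p c • q₀
      map_add' := fun c d => by rw [map_add, add_smul]
      map_smul' := fun a c => by
        show Curv2.stalkMap k X p (a * c) • q₀ = Curv2.stalkMap k X p a • (Curv2.stalkMap k X p c • q₀)
        rw [map_mul, mul_smul] }
  have hL : Function.Surjective L := fun q => by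
    obtain ⟨a, ha⟩ := hq₀ q
    obtain ⟨c, hc⟩ := CurveSection.exists_stalkMap_sub_mem k hp a
    refine ⟨c, ?_⟩
    have h0 := smul_quot_eq_zero p hp hc q₀
    rw [sub_smul, sub_eq_zero] at h0
    exact h0.symm.trans (ha.symm : a • q₀ = q)
  have h1 := LinearMap.finrank_le_finrank_of_surjective hL
  have h2 : 0 < Module.finrank k (Q.presheaf.stalk p) := Module.finrank_pos
  rw [Module.finrank_self] at h1
  exact_mod_cast le_antisymm h1 h2

include hp in
theorem finrank_of_eval {S : ShortComplex X.Modules}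
    (hT : S.ShortExact) (hB : Coh.IsCoh S.X₂) (hC : Coh.IsCoh S.X₃)
    (hsupp : CohB1.support S.X₃ ⊆ {p})
    (hkill : ∀ a ∈ IsLocalRing.maximalIdeal (X.presheaf.stalk p), ∀ q : S.X₃.presheaf.stalk p, a • q = 0)
    {r : ℕ} (hr : Module.finrank k (Coh.HH X S.X₃ 0) = r) :
    Module.finrank k (Coh.HH X S.X₂ 0) ≤ Module.finrank k (Coh.HH X S.X₁ 0) + r ∧
      ((∀ v : S.X₂.presheaf.stalk p, ∃ t : Coh.HH X S.X₂ 0,
          v - S.X₂.presheaf.germ ⊤ p trivial (Sheaf.H.equiv₀ (Coh.toAb S.X₂) isTerminalTop t : Γ(S.X₂, ⊤)) ∈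
            IsLocalRing.maximalIdeal (X.presheaf.stalk p) •
              (⊤ : Submodule (X.presheaf.stalk p) (S.X₂.presheaf.stalk p))) →
        Module.finrank k (Coh.HH X S.X₁ 0) + r = Module.finrank k (Coh.HH X S.X₂ 0)) := by
  classical
  haveI := CurveCohLib.isNoetherian_of_proper (k := k) (X := X)
  haveI := S0002.result k X S.X₂ hB 0
  haveI := S0002.result k X S.X₃ hC 0
  have hcl : ∀ x ∈ CohB1.support S.X₃, IsClosed ({x} : Set X) := fun x hx =>
    Set.mem_singleton_iff.1 (hsupp hx) ▸ hp
  have hker : LinearMap.ker (mapLin k S.g 0) = LinearMap.range (mapLin k S.f 0) :=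
    CurveCohLib.ker_mapLin_g k hT 0
  have hinj : Function.Injective (mapLin k S.f 0) := CurveCohLib.mapLin_f_zero_injective k hT
  have hsum := LinearMap.finrank_range_add_finrank_ker (mapLin k S.g 0)
  rw [hker, LinearMap.finrank_range_of_inj hinj] at hsum
  have hle : Module.finrank k (LinearMap.range (mapLin k S.g 0)) ≤ r :=
    (Submodule.finrank_le _).trans hr.le
  refine ⟨by omega, fun hgen => ?_⟩
  obtain ⟨e, he⟩ := CurveCohLib.exists_h0Equiv (k := k) hC hcl {p} (by simpa using hsupp)
  have hsurj : Function.Surjective (mapLin k S.g 0) := fun y => by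
    let F := DerSch.stalkFunctor X p
    haveI : Epi (F.map S.g) := by
      haveI : Epi S.g := hT.epi_g
      infer_instance
    obtain ⟨(v : S.X₂.presheaf.stalk p), hv⟩ := (ModuleCat.epi_iff_surjective (F.map S.g)).1 inferInstance
      (show F.obj S.X₃ from e y ⟨p, Finset.mem_singleton_self p⟩)
    obtain ⟨t, ht⟩ := hgen v
    refine ⟨t, e.injective (funext fun x => ?_)⟩
    obtain ⟨x, hx⟩ := x
    obtain rfl : p = x := (Finset.mem_singleton.1 hx).symm
    rw [he]
    refine Eq.trans ?_ hv
    have h2 : F.map S.g (v - S.X₂.presheaf.germ ⊤ p trivial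
        (Sheaf.H.equiv₀ (Coh.toAb S.X₂) isTerminalTop t : Γ(S.X₂, ⊤))) = 0 := by
      refine Submodule.smul_induction_on ht (fun a ha m _ => ?_) fun a b ha hb => ?_
      · exact (map_smul (F.map S.g).hom a m).trans (hkill a ha _)
      · exact (map_add (F.map S.g).hom a b).trans ((congrArg₂ (· + ·) ha hb).trans (add_zero _))
    rw [map_sub, sub_eq_zero] at h2
    refine Eq.trans ?_ h2.symm
    refine Eq.trans ?_ (TopCat.Presheaf.stalkFunctor_map_germ_apply ⊤ p trivial
      ((Scheme.Modules.toPresheaf X).map S.g) _).symm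
    refine congrArg (S.X₃.presheaf.germ ⊤ p trivial) ?_
    exact (Sheaf.H.equiv₀_naturality isTerminalTop ((QCoh.toAbFunctor X).map S.g) t).symm
  rw [LinearMap.range_eq_top.2 hsurj, finrank_top, hr] at hsum
  omega


theorem finrank_twist {G : X.Modules} {r : ℕ}
    (hG : FlatMod.IsFinLocFreeOfRank r G) :
    Module.finrank k (Coh.HH X G 0) ≤
        Module.finrank k (Coh.HH X ((DCoh.tensorBi.obj G).obj (ptMod p hp)) 0) + r ∧
      ((∀ v : G.presheaf.stalk p, ∃ t : Coh.HH X G 0,
          v - G.presheaf.germ ⊤ p trivial (Sheaf.H.equiv₀ (Coh.toAb G) isTerminalTop t : Γ(G, ⊤)) ∈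
            IsLocalRing.maximalIdeal (X.presheaf.stalk p) •
              (⊤ : Submodule (X.presheaf.stalk p) (G.presheaf.stalk p))) →
        Module.finrank k (Coh.HH X ((DCoh.tensorBi.obj G).obj (ptMod p hp)) 0) + r =
          Module.finrank k (Coh.HH X G 0)) := by
  haveI := CurveCohLib.isNoetherian_of_proper (k := k) (X := X)
  have hGf := isFinLocFree_of_rank hG
  have hQc := CurveTensor.isCoh_tensor hGf (isCoh_quot p hp k)
  have hsupp := (CurveTensor.support_tensor_subset (E := G)).trans (support_quot_subset p hp)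
  have hr : Module.finrank k (Coh.HH X ((DCoh.tensorBi.obj G).obj (ClSub.quotMod (ptIdeal p hp))) 0) = r := by
    have h1 := CurveTensor.euler_tensor_torsion k hG (isCoh_quot p hp k) (closed_support p hp)
    rw [euler_quot p hp k, CurveCohLib.euler_eq_finrank_zero hQc
      (fun x hx => Set.mem_singleton_iff.1 (hsupp hx) ▸ hp)] at h1
    omega
  exact finrank_of_eval p hp k
    (shortExact_of_iso_mid _ _ _
      (CurveTensor.shortExact_tensor hGf _ _ _ (Curves16.shortExact_pt' p hp)) (KFlatLib.tensorUnitIso G))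
    (CurveDeg.isCoh_of_isFinLocFree hGf) hQc hsupp (fun a ha q => smul_tensor_eq_zero p hp ha q) hr

include k in
theorem euler_ptMod :
    Curv2.euler k X (ptMod p hp) = Curv2.euler k X (Coh.structureModule X) - 1 := by
  haveI := CurveCohLib.isNoetherian_of_proper (k := k) (X := X)
  have h := euler_add' k _ _ _ (Curves16.shortExact_pt' p hp)
    (QCoh.isCoh_kernel QCoh.isCoh_structureModule' (isCoh_quot p hp k) _)
    QCoh.isCoh_structureModule' (isCoh_quot p hp k)
  rw [euler_quot p hp k] at h
  change Curv2.euler k X (Coh.structureModule X) = Curv2.euler k X (ptMod p hp) + 1 at h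
  omega

omit [IsIntegral X] in
include k hp in
/-- A section generating at `p` spans the fibre at `p`. -/
theorem spans_fibre {L : X.Modules} {σ : Coh.structureModule X ⟶ L} (hs : p ∈ CohB1.genLocus L σ) (v : L.presheaf.stalk p) :
    ∃ t : Coh.HH X L 0, v - L.presheaf.germ ⊤ p trivial (Sheaf.H.equiv₀ (Coh.toAb L) isTerminalTop t : Γ(L, ⊤)) ∈
      IsLocalRing.maximalIdeal (X.presheaf.stalk p) • (⊤ : Submodule (X.presheaf.stalk p) (L.presheaf.stalk p)) := by
  let s := InvX.one σ
  obtain ⟨U, hpU, hU⟩ : ∃ U : X.Opens, p ∈ U ∧ InvX.IsFrame (AModX.res L (le_top : U ≤ ⊤) s) :=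
    ⟨_, hs, AmpleX.res_genLocus_frame σ⟩
  obtain ⟨a, rfl⟩ := (hU.germ_bijective hpU).2 v
  obtain ⟨c, hc⟩ := CurveSection.exists_stalkMap_sub_mem k hp a
  let t₁ : Coh.HH X L 0 := (Sheaf.H.equiv₀ (Coh.toAb L) isTerminalTop).symm s
  refine ⟨c • t₁, ?_⟩
  have hg : L.presheaf.germ U p hpU (AModX.res L (le_top : U ≤ ⊤) s) = L.presheaf.germ ⊤ p trivial s :=
    InvX.germ_res' le_top hpU s
  have hsm : L.presheaf.germ ⊤ p trivial (Sheaf.H.equiv₀ (Coh.toAb L) isTerminalTop (c • t₁) : Γ(L, ⊤)) =
      Curv2.stalkMap k X p c • L.presheaf.germ ⊤ p trivial s := by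
    rw [CurveCohLib.germ_h0Equiv_smul]
    simp only [t₁, AddEquiv.apply_symm_apply]
  rw [hsm]
  show a • L.presheaf.germ U p hpU (AModX.res L (le_top : U ≤ ⊤) s) - _ ∈ _
  rw [hg, ← sub_smul]
  exact Submodule.smul_mem_smul hc Submodule.mem_top

include k in
/-- From an invertible module with `H¹ = 0` and `n + 1` sections, one with `n` sections. -/
theorem exists_step (hdim : topologicalKrullDim X = 1) {L : X.Modules} (hL : PicF.IsInvertible L)
    (h1 : Subsingleton (Coh.HH X L 1)) {n : ℕ} (h0 : Module.finrank k (Coh.HH X L 0) = n + 1) :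
    ∃ N : X.Modules, PicF.IsInvertible N ∧ Subsingleton (Coh.HH X N 1) ∧
      Module.finrank k (Coh.HH X N 0) = n := by
  haveI := CurveCohLib.isNoetherian_of_proper (k := k) (X := X)
  obtain ⟨s, hs⟩ := CurveRR.exists_hom_ne_zero k (P := L) (by omega)
  have hη := Pic13Lib.genericPoint_mem_genLocus hL s hs
  let f := X ↘ Spec (CommRingCat.of k)
  have hd : Dense (f.smoothLocus : Set X) := (S1561.result k X).2
  haveI : JacobsonSpace X := LocallyOfFiniteType.jacobsonSpace f
  obtain ⟨q, ⟨hqs, hqsm⟩, hq⟩ := nonempty_inter_closedPoints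
    (hd.inter_open_nonempty _ (CohB1.genLocus L s).isOpen ⟨_, hη⟩)
    ((CohB1.genLocus L s).isOpen.inter f.smoothLocus.isOpen).isLocallyClosed
  have hequi : ∀ Z ∈ irreducibleComponents (X : Type u), topologicalKrullDim Z = 1 := fun Z hZ => by
    rw [irreducibleComponents_eq_singleton] at hZ
    rw [Set.mem_singleton_iff.1 hZ, (Homeomorph.Set.univ X).isHomeomorph.topologicalKrullDim_eq, hdim]
  have hP : PicF.IsInvertible (ptMod q hq) :=
    (Curves16.isInvertible_ptMod_iff k hequi q hq).2 ⟨f.smoothLocus, hqsm, by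
      rw [← Scheme.Hom.smoothLocus_eq_top_iff, ← Scheme.Hom.preimage_smoothLocus_eq, Scheme.Opens.ι_preimage_self]⟩
  let N := (DCoh.tensorBi.obj L).obj (ptMod q hq)
  have hN : PicF.IsInvertible N := InvX.isInvertible_tensorMod hL hP
  have hf := (finrank_twist q hq k (InvEnd.isFinLocFreeOfRank_one hL)).2
    (spans_fibre q hq k hqs)
  have he : Curv2.euler k X N = Curv2.euler k X L - 1 := by
    have h := CurveRR.deg_tensor k hdim hL hP
    have := euler_ptMod q hq k
    unfold Curv2.deg at h
    push_cast at h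
    show Curv2.euler k X ((DCoh.tensorBi.obj L).obj (ptMod q hq)) = _
    omega
  refine ⟨N, hN, ?_, by show Module.finrank k (Coh.HH X N 0) = n; change Module.finrank k (Coh.HH X N 0) + 1 = _ at hf; omega⟩
  haveI := S0002.result k X N (CurveDeg.isCoh_of_isInvertible hN) 1
  have h2 := CurveRR.euler_eq_h0_sub_h1 k hdim.le (CurveDeg.isCoh_of_isInvertible hN).1
  have h3 := CurveRR.euler_eq_h0_sub_h1 k hdim.le (CurveDeg.isCoh_of_isInvertible hL).1
  haveI := h1
  rw [Module.finrank_zero_of_subsingleton (M := Coh.HH X L 1)] at h3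
  change Module.finrank k (Coh.HH X N 0) + 1 = _ at hf
  exact (Module.finrank_zero_iff (R := k) (M := Coh.HH X N 1)).1 (by omega)

include k in
/-- Invertible modules with no `H¹` and exactly one, or no, section. -/
theorem exists_h0_le_one (hdim : topologicalKrullDim X = 1) :
    ∀ m : ℕ, m ≤ 1 → ∃ N : X.Modules, PicF.IsInvertible N ∧ Subsingleton (Coh.HH X N 1) ∧
      Module.finrank k (Coh.HH X N 0) = m := by
  haveI := CurveCohLib.isNoetherian_of_proper (k := k) (X := X)
  haveI : X.IsSeparated := ⟨by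
    rw [← Limits.terminal.comp_from (X ↘ Spec (CommRingCat.of k))]
    infer_instance⟩
  obtain ⟨L₀, hL₀⟩ := VarAmp.exists_isAmple k hdim.le
  have hO : Coh.IsCoh (Coh.structureModule X) := QCoh.isCoh_structureModule'
  obtain ⟨n₀, hv⟩ := (S0051.result k X (X ↘ Spec (CommRingCat.of k)) L₀ hL₀.1).1 hL₀ _ hO
  obtain ⟨n₁, hg⟩ := AmpleX.eventually_isGloballyGenerated hL₀ hO.1 hO.2
  let L := CohB1.tensorMod (Coh.structureModule X) (CohB1.tensorPow L₀ (max n₀ n₁))
  have hL : PicF.IsInvertible L := InvX.isInvertible_tensorMod InvX.isInvertible_structureModule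
    (InvX.isInvertible_tensorPow hL₀.1 _)
  have h1 : Subsingleton (Coh.HH X L 1) := hv _ (le_max_left _ _) 1 Nat.one_pos
  haveI := S0002.result k X L (CurveDeg.isCoh_of_isInvertible hL) 0
  have hpos : 0 < Module.finrank k (Coh.HH X L 0) := by
    obtain ⟨t, ht⟩ := VarAmp.exists_mem_locus_of_gg k hL (hg _ (le_max_right _ _)) (genericPoint X)
    refine Module.finrank_pos_iff_exists_ne_zero.2
      ⟨(Sheaf.H.equiv₀ (Coh.toAb L) isTerminalTop).symm t, fun h => ?_⟩
    have ht0 : t = 0 := by simpa using congrArg (Sheaf.H.equiv₀ (Coh.toAb L) isTerminalTop) h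
    refine VarAmp.ne_zero_of_mem_genLocus (L := L) (s := InvX.ofSect t) (x := genericPoint X)
      (by rw [AmpleX.genLocus_eq_locus, InvX.one_ofSect]; exact ht) ?_
    refine CurveRR.hom_ext_one ?_
    show InvX.one (InvX.ofSect t) = InvX.one 0
    rw [InvX.one_ofSect, ht0]
    rfl
  intro m hm
  suffices H : ∀ (j : ℕ) (N : X.Modules), PicF.IsInvertible N → Subsingleton (Coh.HH X N 1) →
      Module.finrank k (Coh.HH X N 0) = m + j → ∃ N : X.Modules, PicF.IsInvertible N ∧
        Subsingleton (Coh.HH X N 1) ∧ Module.finrank k (Coh.HH X N 0) = m by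
    obtain ⟨j, hj⟩ := Nat.exists_eq_add_of_le (show m ≤ Module.finrank k (Coh.HH X L 0) by omega)
    exact H j L hL h1 hj
  intro j
  induction j with
  | zero => exact fun N hN hN1 hN0 => ⟨N, hN, hN1, hN0⟩
  | succ j ih =>
    intro M hM hM1 hM0
    obtain ⟨N, hN, hN1, hN0⟩ := exists_step k hdim hM hM1 (n := m + j) (by omega)
    exact ih N hN hN1 hN0

end Groth.Agent.VarPicOne.Twist
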