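import Groth.Agent.VarPicOne.Lift
import Groth.Agent.InvUfdLib.Semilocal

/-!
# Descending invertible modules along morphisms which are isomorphisms off a discrete set
-/

set_option backward.isDefEq.respectTransparency false
set_option backward.isDefEq.respectTransparency.types false

universe u

open CategoryTheory AlgebraicGeometry TopologicalSpace Opposite

noncomputable section

namespace Groth.Agent.VarPicOne

open Groth.Agent.AModX Groth.Agent.InvX

variable {X Y : Scheme.{u}}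

theorem exists_frame_fibre (f : X ⟶ Y) [IsFinite f] {L : X.Modules} (hL : PicF.IsInvertible L) (y : Y) :
    ∃ O : Y.Opens, y ∈ O ∧ ∃ s : Γ(L, f ⁻¹ᵁ O), IsFrame s := by
  obtain ⟨O, hy, h⟩ := InvUfdLib.exists_iso_near_fibre f hL y
  exact ⟨O, hy, Para81.exists_frame_of_iso _ h⟩

theorem app_bijective_of_isIso_restrict (f : X ⟶ Y) (V : Y.Opens) [IsIso (f ∣_ V)] {W : Y.Opens}
    (hW : W ≤ V) : Function.Bijective (f.app W).hom := by
  have hW' : V.ι ''ᵁ (V.ι ⁻¹ᵁ W) = W := by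
    rw [Scheme.Hom.image_preimage_eq_opensRange_inf, Scheme.Opens.opensRange_ι, inf_eq_right.2 hW]
  suffices h : IsIso (f.app W) from ConcreteCategory.bijective_of_isIso (f.app W)
  have h1 : IsIso ((f ∣_ V).app (V.ι ⁻¹ᵁ W)) := inferInstance
  rw [morphismRestrict_app] at h1
  have h2 : IsIso (f.app (V.ι ''ᵁ (V.ι ⁻¹ᵁ W))) := IsIso.of_isIso_comp_right _
    (X.presheaf.map (eqToHom (image_morphismRestrict_preimage f V (V.ι ⁻¹ᵁ W))).op)
  rwa [hW'] at h2

theorem exists_nhd_inter_singleton {D : Set Y} (hD : DiscreteTopology ↥D) {y : Y} (hy : y ∈ D) :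
    ∃ O : Y.Opens, y ∈ O ∧ ∀ z ∈ O, z ∈ D → z = y := by
  obtain ⟨V, hV, heq⟩ := isOpen_induced_iff.1 (isOpen_discrete ({⟨y, hy⟩} : Set D))
  exact ⟨⟨V, hV⟩, (Set.ext_iff.1 heq ⟨y, hy⟩).2 rfl,
    fun z hz hzD => congrArg Subtype.val ((Set.ext_iff.1 heq ⟨z, hzD⟩).1 hz)⟩

/-- An isomorphism off a discrete set. -/
theorem exists_descent_of_iso (f : X ⟶ Y) [IsFinite f] (V : Y.Opens) [IsIso (f ∣_ V)]
    (hdisc : DiscreteTopology ↥((V : Set Y)ᶜ)) (L : X.Modules) (hL : PicF.IsInvertible L) :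
    ∃ N : Y.Modules, PicF.IsInvertible N ∧ Nonempty ((Scheme.Modules.pullback f).obj N ≅ L) := by
  classical
  have hO : ∀ y : Y, ∃ O : Y.Opens, y ∈ O ∧ (∀ z ∈ O, z ∉ V → z = y) ∧
      ∃ s : Γ(L, f ⁻¹ᵁ O), IsFrame s := fun y => by
    obtain ⟨O, hyO, s, hs⟩ := exists_frame_fibre f hL y
    by_cases hy : y ∈ V
    · exact ⟨O ⊓ V, ⟨hyO, hy⟩, fun z hz hzV => absurd hz.2 hzV, _,
        hs.res (f.preimage_mono inf_le_left)⟩
    · obtain ⟨O', hyO', hO'⟩ := exists_nhd_inter_singleton hdisc (show y ∈ (V : Set Y)ᶜ from hy)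
      exact ⟨O ⊓ O', ⟨hyO, hyO'⟩, fun z hz hzV => hO' z hz.2 hzV, _,
        hs.res (f.preimage_mono inf_le_left)⟩
  choose O hyO hOV s hs using hO
  obtain ⟨N, hN, h⟩ := exists_of_bijective (κ := PUnit.{1}) (fun _ => f) (fun _ => L)
    (fun y => ⟨y, hyO y⟩) (fun y _ => s y) (fun y _ => hs y) fun a b hab W ha hb => by
      have hW : W ≤ V := fun z hz => by
        by_contra hzV
        exact hab ((hOV a z (ha hz) hzV).symm.trans (hOV b z (hb hz) hzV))
      refine ⟨fun r r' h => (app_bijective_of_isIso_restrict f V hW).1 (congrFun h ⟨⟩),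
        fun g => ?_⟩
      obtain ⟨r, hr⟩ := (app_bijective_of_isIso_restrict f V hW).2 (g ⟨⟩)
      exact ⟨r, funext fun _ => hr⟩
  exact ⟨N, hN, h ⟨⟩⟩

section Family

variable [IsReduced Y] {ι : Type} [Finite ι] {Z : ι → Scheme.{u}} (f : ∀ i, Z i ⟶ Y)
  [∀ i, IsClosedImmersion (f i)]

/-- The part of an open meeting only the `i`-th image. -/
def onlyIn (W : Y.Opens) (i : ι) : Y.Opens :=
  W ⊓ ⟨(⋃ j ∈ {j | j ≠ i}, Set.range (f j))ᶜ, ((Set.toFinite _).isClosed_biUnion fun j _ =>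
    (f j).isClosedEmbedding.isClosed_range).isOpen_compl⟩

omit [IsReduced Y] in
theorem mem_onlyIn {W : Y.Opens} {i : ι} {y : Y} (hy : y ∈ W)
    (h : ∀ j, y ∈ Set.range (f j) → j = i) : y ∈ onlyIn f W i := by
  refine ⟨hy, fun hmem => ?_⟩
  obtain ⟨j, hj, hyj⟩ := Set.mem_iUnion₂.1 hmem
  exact hj (h j hyj)

theorem app_onlyIn_bijective (hcov : ∀ y : Y, ∃ i, y ∈ Set.range (f i)) (W : Y.Opens) (i : ι) :
    Function.Bijective ((f i).app (onlyIn f W i)).hom := by
  have : IsClosedImmersion (f i ∣_ onlyIn f W i) :=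
    IsZariskiLocalAtTarget.restrict (P := @IsClosedImmersion) (inferInstance : IsClosedImmersion (f i)) _
  have : Surjective (f i ∣_ onlyIn f W i) := ⟨fun y => by
    obtain ⟨j, z, hz⟩ := hcov y.1
    have hji : j = i := by
      by_contra hji
      exact y.2.2 (Set.mem_iUnion₂.2 ⟨j, hji, z, hz⟩)
    subst hji
    have hmem : f j z ∈ onlyIn f W j := hz.symm ▸ y.2
    refine ⟨⟨z, hmem⟩, Subtype.ext ?_⟩
    exact (congr($(morphismRestrict_ι (f j) (onlyIn f W j)) ⟨z, hmem⟩)).trans hz⟩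
  have : IsIso (f i ∣_ onlyIn f W i) := isIso_of_isClosedImmersion_of_surjective _
  exact app_bijective_of_isIso_restrict (f i) (onlyIn f W i) le_rfl

theorem family_bijective (hcov : ∀ y : Y, ∃ i, y ∈ Set.range (f i)) (W : Y.Opens)
    (hW : ∀ y ∈ W, ∀ i j, y ∈ Set.range (f i) → y ∈ Set.range (f j) → i = j) :
    Function.Bijective fun (r : Γ(Y, W)) i => (f i).app W r := by
  have hle : ∀ i, onlyIn f W i ≤ W := fun i => inf_le_left
  have hcov' : ∀ y ∈ W, ∃ i : ULift.{u} ι, y ∈ onlyIn f W i.down := fun y hy => by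
    obtain ⟨i, hi⟩ := hcov y
    exact ⟨⟨i⟩, mem_onlyIn f hy fun j hj => hW y hy j i hj hi⟩
  have hpre : ∀ i, f i ⁻¹ᵁ W ≤ f i ⁻¹ᵁ onlyIn f W i := fun i z hz =>
    mem_onlyIn f hz fun j hj => hW _ hz j i hj ⟨z, rfl⟩
  constructor
  · intro r r' h
    refine eq_of_locally (M := Coh.structureModule Y) _ _ fun y hy => ?_
    obtain ⟨i, hi⟩ := hcov' y hy
    refine ⟨_, hle i.down, hi, (app_onlyIn_bijective f hcov W i.down).1 ?_⟩
    show (f i.down).app _ (resR (hle i.down) r) = (f i.down).app _ (resR (hle i.down) r')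
    rw [app_resR, app_resR, show (f i.down).app W r = (f i.down).app W r' from congrFun h i.down]
  · intro g
    have hr := fun i : ULift.{u} ι => (app_onlyIn_bijective f hcov W i.down).2
      (resR ((f i.down).preimage_mono (hle i.down)) (g i.down))
    choose r hr using hr
    obtain ⟨t, ht, -⟩ := existsUnique_glue (M := Coh.structureModule Y) (V := W)
      (fun i : ULift.{u} ι => onlyIn f W i.down) (fun i => hle i.down) hcov' r fun i j => by
        by_cases hij : i = j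
        · subst hij
          rfl
        refine eq_of_locally _ _ fun y hy => ?_
        obtain ⟨l, hl⟩ := hcov y
        exfalso
        have h1 : l = i.down := by
          by_contra h; exact hy.1.2 (Set.mem_iUnion₂.2 ⟨l, h, hl⟩)
        have h2 : l = j.down := by
          by_contra h; exact hy.2.2 (Set.mem_iUnion₂.2 ⟨l, h, hl⟩)
        exact hij (ULift.ext _ _ (h1.symm.trans h2))
    refine ⟨t, funext fun i => ?_⟩
    have h1 : (f i).app (onlyIn f W i) (resR (hle i) t) = resR ((f i).preimage_mono (hle i)) (g i) :=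
      (congrArg ((f i).app _) (ht ⟨i⟩)).trans (hr ⟨i⟩)
    rw [app_resR] at h1
    have h2 := congrArg (resR (hpre i)) h1
    rwa [resR_resR, resR_resR, resR_self, resR_self] at h2

/-- Closed subschemes meeting in discrete sets. -/
theorem exists_glue_closed (hcov : ∀ y : Y, ∃ i, y ∈ Set.range (f i))
    (hdisc : ∀ i j, i ≠ j → DiscreteTopology ↥(Set.range (f i) ∩ Set.range (f j)))
    (L : ∀ i, (Z i).Modules) (hL : ∀ i, PicF.IsInvertible (L i)) :
    ∃ N : Y.Modules, PicF.IsInvertible N ∧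
      ∀ i, Nonempty ((Scheme.Modules.pullback (f i)).obj N ≅ L i) := by
  classical
  have := Fintype.ofFinite ι
  have hO : ∀ y : Y, ∃ O : Y.Opens, y ∈ O ∧
      (∀ z ∈ O, ∀ i j, i ≠ j → z ∈ Set.range (f i) → z ∈ Set.range (f j) → z = y) ∧
      ∀ i, ∃ s : Γ(L i, f i ⁻¹ᵁ O), IsFrame s := fun y => by
    have h1 := fun i => exists_frame_fibre (f i) (hL i) y
    choose O hyO s hs using h1
    have h2 : ∀ p : ι × ι, ∃ O : Y.Opens, y ∈ O ∧
        ∀ z ∈ O, p.1 ≠ p.2 → z ∈ Set.range (f p.1) → z ∈ Set.range (f p.2) → z = y := fun p => by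
      by_cases hp : p.1 = p.2
      · exact ⟨⊤, trivial, fun z _ h => absurd hp h⟩
      by_cases hy : y ∈ Set.range (f p.1) ∩ Set.range (f p.2)
      · obtain ⟨O', hyO', hO'⟩ := exists_nhd_inter_singleton (hdisc p.1 p.2 hp) hy
        exact ⟨O', hyO', fun z hz _ h h' => hO' z hz ⟨h, h'⟩⟩
      · exact ⟨⟨(Set.range (f p.1) ∩ Set.range (f p.2))ᶜ,
            ((f p.1).isClosedEmbedding.isClosed_range.inter
              (f p.2).isClosedEmbedding.isClosed_range).isOpen_compl⟩, hy,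
          fun z hz _ h h' => absurd ⟨h, h'⟩ hz⟩
    choose O' hyO' hO' using h2
    let P : Y.Opens := ⟨(⋂ i, (O i : Set Y)) ∩ ⋂ p, (O' p : Set Y),
      (isOpen_iInter_of_finite fun i => (O i).2).inter (isOpen_iInter_of_finite fun p => (O' p).2)⟩
    exact ⟨P, ⟨Set.mem_iInter.2 hyO, Set.mem_iInter.2 hyO'⟩,
      fun z hz i j hij => hO' (i, j) z (Set.mem_iInter.1 hz.2 (i, j)) hij,
      fun i => ⟨_, (hs i).res ((f i).preimage_mono (show P ≤ O i from
        fun z hz => Set.mem_iInter.1 hz.1 i))⟩⟩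
  choose O hyO hOD s hs using hO
  exact exists_of_bijective f L (fun y => ⟨y, hyO y⟩) s hs fun a b hab W ha hb =>
    family_bijective f hcov W fun z hz i j hi hj => by
      by_contra hij
      exact hab ((hOD a z (ha hz) i j hij hi hj).symm.trans (hOD b z (hb hz) i j hij hi hj))

end Family

end Groth.Agent.VarPicOne
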