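import Groth.Agent.VarPicOne.Gen
import Groth.Agent.VarPicOne.Apps

/-!
# Invertible modules descend along finite morphisms which are closed immersions on a dense open
-/

set_option backward.isDefEq.respectTransparency false
set_option backward.isDefEq.respectTransparency.types false

universe u

open CategoryTheory AlgebraicGeometry TopologicalSpace Opposite

noncomputable section

namespace Groth.Agent.VarPicOne

open Groth.Agent.AModX Groth.Agent.InvX

variable {X Y : Scheme.{u}} (f : X ⟶ Y)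

theorem app_surjective_of_restrict (V : Y.Opens) [IsClosedImmersion (f ∣_ V)] {A : Y.Opens}
    (hA : IsAffineOpen A) (hAV : A ≤ V) : Function.Surjective (f.app A).hom := by
  have hA' : V.ι ''ᵁ (V.ι ⁻¹ᵁ A) = A := by
    rw [Scheme.Hom.image_preimage_eq_opensRange_inf, Scheme.Opens.opensRange_ι, inf_eq_right.2 hAV]
  have hAff : IsAffineOpen (V.ι ⁻¹ᵁ A) := by
    refine (V.ι.isAffineOpen_iff_of_isOpenImmersion).1 ?_
    rwa [hA']
  have h := (f ∣_ V).app_surjective (V.ι ⁻¹ᵁ A) hAff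
  rw [morphismRestrict_app] at h
  have h2 : Function.Surjective (f.app (V.ι ''ᵁ (V.ι ⁻¹ᵁ A))).hom := by
    intro y
    obtain ⟨x, hx⟩ := h ((X.presheaf.map
      (eqToHom (image_morphismRestrict_preimage f V (V.ι ⁻¹ᵁ A))).op).hom y)
    exact ⟨x, (ConcreteCategory.bijective_of_isIso (X.presheaf.map
      (eqToHom (image_morphismRestrict_preimage f V (V.ι ⁻¹ᵁ A))).op)).1 hx⟩
  rwa [hA'] at h2

/-- Units on the source lift to units near a point. -/
theorem exists_unit_lift (V : Y.Opens) [IsClosedImmersion (f ∣_ V)] {A : Y.Opens} (hA : IsAffineOpen A)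
    (hAV : A ≤ V) {η : Y} (hη : η ∈ A) {g : Γ(X, f ⁻¹ᵁ A)} (hg : IsUnit g) :
    ∃ c : Γ(Y, A), η ∈ Y.basicOpen c ∧ f.app A c = g := by
  obtain ⟨a, ha⟩ := app_surjective_of_restrict f V hA hAV g
  obtain ⟨b, hb⟩ := app_surjective_of_restrict f V hA hAV ((hg.unit⁻¹ : Γ(X, f ⁻¹ᵁ A)ˣ) : Γ(X, f ⁻¹ᵁ A))
  by_cases h : η ∈ Y.basicOpen a
  · exact ⟨a, h, ha⟩
  refine ⟨a + (1 - a * b), ?_, ?_⟩
  · rw [Scheme.mem_basicOpen Y _ η hη] at h ⊢
    have hm : Y.presheaf.germ A η hη a ∈ IsLocalRing.maximalIdeal (Y.presheaf.stalk η) := h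
    have h1 : IsUnit (Y.presheaf.germ A η hη (1 - a * b)) := by
      rw [map_sub, map_one, map_mul]
      exact IsLocalRing.isUnit_one_sub_self_of_mem_nonunits _
        (Ideal.mul_mem_right _ _ hm)
    rw [map_add, ← IsLocalRing.notMem_maximalIdeal]
    exact fun hmem => (IsLocalRing.notMem_maximalIdeal.2 h1)
      ((Ideal.add_mem_iff_right _ hm).1 hmem)
  · rw [map_add, map_sub, map_one, map_mul, show (f.app A).hom a = g from ha,
      show (f.app A).hom b = _ from hb, IsUnit.mul_val_inv, sub_self, add_zero]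

variable [NoetherianSpace Y] [IsFinite f]

/-- The data at the generic points: pairwise disjoint opens with frames. -/
theorem exists_generic_frames (V : Y.Opens) (hV : Dense (V : Set Y)) {L : X.Modules}
    (hL : PicF.IsInvertible L) :
    ∃ (O : genPts Y → Y.Opens), (∀ η, η.1 ∈ O η) ∧ (∀ η, O η ≤ V) ∧
      (∀ η η', η ≠ η' → O η ⊓ O η' = ⊥) ∧ ∀ η, ∃ s : Γ(L, f ⁻¹ᵁ O η), IsFrame s := by
  classical
  have h1 : ∀ η : genPts Y, ∃ O : Y.Opens, η.1 ∈ O ∧ O ≤ V ∧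
      (∀ ξ ∈ genPts Y, ξ ∈ O → ξ = η.1) ∧ ∃ s : Γ(L, f ⁻¹ᵁ O), IsFrame s := fun η => by
    obtain ⟨O, hηO, s, hs⟩ := exists_frame_fibre f hL η.1
    let P : Y.Opens := ⟨(⋃ ξ ∈ genPts Y \ {η.1}, closure {ξ})ᶜ,
      ((finite_genPts.subset Set.sdiff_subset).isClosed_biUnion fun _ _ => isClosed_closure).isOpen_compl⟩
    have hηP : η.1 ∈ P := fun h => by
      obtain ⟨ξ, hξ, hηξ⟩ := Set.mem_iUnion₂.1 h
      exact hξ.2 (η.2 ξ (specializes_iff_mem_closure.2 hηξ))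
    refine ⟨O ⊓ V ⊓ P, ⟨⟨hηO, genPt_mem_of_dense V.2 hV η.2⟩, hηP⟩,
      inf_le_left.trans inf_le_right, fun ξ hξ hmem => ?_, _, hs.res (f.preimage_mono
        (inf_le_left.trans inf_le_left : O ⊓ V ⊓ P ≤ O))⟩
    by_contra hne
    exact hmem.2 (Set.mem_iUnion₂.2 ⟨ξ, ⟨hξ, hne⟩, subset_closure rfl⟩)
  choose O hηO hOV hOg s hs using h1
  refine ⟨O, hηO, hOV, fun η η' hne => ?_, fun η => ⟨s η, hs η⟩⟩
  refine (Opens.ext (Set.eq_empty_iff_forall_notMem.2 fun z hz => hne (Subtype.ext ?_)))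
  obtain ⟨ξ, hξ, hξz⟩ := exists_genPt z
  exact (hOg η ξ hξ (hξz.mem_open (O η).2 hz.1)).symm.trans (hOg η' ξ hξ (hξz.mem_open (O η').2 hz.2))

omit [NoetherianSpace Y] [IsFinite f] in
theorem res_eq_of_disjoint {M : Y.Modules} {W : Y.Opens} (hW : W = ⊥) (x y : Γ(M, W)) : x = y :=
  eq_of_locally x y fun p hp => absurd hp (by rw [hW]; simp)

omit [NoetherianSpace Y] [IsFinite f] in
theorem exists_glue_units {κ : Type u} (W : κ → Y.Opens) (T : Y.Opens) (hW : ∀ i, W i ≤ T)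
    (hcov : ∀ p ∈ T, ∃ i, p ∈ W i) (hdisj : ∀ i j, i ≠ j → W i ⊓ W j = ⊥)
    (c : ∀ i, Γ(Y, W i)) (hc : ∀ i, IsUnit (c i)) :
    ∃ t : Γ(Y, T), IsUnit t ∧ ∀ i, resR (hW i) t = c i := by
  have hcompat : ∀ d : ∀ i, Γ(Coh.structureModule Y, W i), ∀ i j,
      res (Coh.structureModule Y) (inf_le_left : W i ⊓ W j ≤ W i) (d i) =
        res (Coh.structureModule Y) inf_le_right (d j) := fun d i j => by
    by_cases hij : i = j
    · subst hij; rfl
    · exact res_eq_of_disjoint (hdisj i j hij) _ _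
  obtain ⟨t, ht, -⟩ := existsUnique_glue (M := Coh.structureModule Y) (V := T) W hW hcov c (hcompat c)
  obtain ⟨t', ht', -⟩ := existsUnique_glue (M := Coh.structureModule Y) (V := T) W hW hcov
    (fun i => (((hc i).unit⁻¹ : Γ(Y, W i)ˣ) : Γ(Y, W i))) (hcompat _)
  refine ⟨t, IsUnit.of_mul_eq_one (show Γ(Y, T) from t') ?_, ht⟩
  refine eq_of_locally (M := Coh.structureModule Y) _ _ fun p hp => ?_
  obtain ⟨i, hi⟩ := hcov p hp
  refine ⟨W i, hW i, hi, ?_⟩
  show resR (hW i) ((show Γ(Y, T) from t) * (show Γ(Y, T) from t')) = resR (hW i) 1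
  rw [map_mul, map_one, show resR (hW i) (show Γ(Y, T) from t) = c i from ht i,
    show resR (hW i) (show Γ(Y, T) from t') = _ from ht' i]
  exact (hc i).mul_val_inv

theorem exists_descent_closed (hdim : topologicalKrullDim Y ≤ 1) (V : Y.Opens)
    (hV : Dense (V : Set Y)) [IsClosedImmersion (f ∣_ V)] (L : X.Modules) (hL : PicF.IsInvertible L) :
    ∃ N : Y.Modules, PicF.IsInvertible N ∧ Nonempty ((Scheme.Modules.pullback f).obj N ≅ L) := by
  classical
  obtain ⟨O, hηO, hOV, hOd, hOs⟩ := exists_generic_frames f V hV hL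
  choose s hs using hOs
  let W₁ : Y.Opens := ⨆ η, O η
  have hleW₁ : ∀ η, O η ≤ W₁ := fun η => le_iSup O η
  obtain ⟨ℓ₁, hℓ₁⟩ := Para81.exists_frame_glue (M := L) (fun η => f ⁻¹ᵁ O η) (f ⁻¹ᵁ W₁)
    (fun η => f.preimage_mono (hleW₁ η))
    (fun x hx => by
      have hx' : f x ∈ W₁ := hx
      obtain ⟨η, h⟩ := Opens.mem_iSup.1 hx'
      exact ⟨η, h⟩) s hs (fun η => 1)
    (fun η => isUnit_one) fun η η' => by
      by_cases h : η = η'
      · subst h; rfl
      · refine res_eq_of_disjoint ?_ _ _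
        show f ⁻¹ᵁ (O η ⊓ O η') = ⊥
        rw [hOd η η' h]
        rfl
  have hGW₁ : genPts Y ⊆ (W₁ : Set Y) := fun η hη => Opens.mem_iSup.2 ⟨⟨η, hη⟩, hηO ⟨η, hη⟩⟩
  let B : Set Y := (W₁ : Set Y)ᶜ
  have hB : B.Finite := finite_compl_of_genPts_subset hdim W₁.2 hGW₁
  -- charts at the points outside `W₁`
  have hcharts := fun y : B => exists_frame_fibre f hL y.1
  choose P hyP q hq using hcharts
  -- liftings near the generic points
  have hlift : ∀ (η : genPts Y) (y : B), ∃ (A : Y.Opens), η.1 ∈ A ∧ A ≤ O η ∧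
      ∃ c : Γ(Y, P y ⊓ A), IsUnit c ∧ ∀ hA : A ≤ W₁,
        res L (f.preimage_mono (inf_le_left : P y ⊓ A ≤ P y)) (q y) =
          f.app (P y ⊓ A) c • res L (f.preimage_mono (inf_le_right.trans hA : P y ⊓ A ≤ W₁)) ℓ₁ := by
    intro η y
    by_cases hη : η.1 ∈ P y
    · obtain ⟨A, hA, hηA, hAle⟩ : ∃ A : Y.Opens, IsAffineOpen A ∧ η.1 ∈ A ∧ A ≤ P y ⊓ O η := by
        obtain ⟨_, ⟨A, hA, rfl⟩, hηA, hAle⟩ := Y.isBasis_affineOpens.exists_subset_of_mem_open
          (show η.1 ∈ P y ⊓ O η from ⟨hη, hηO η⟩) (P y ⊓ O η).2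
        exact ⟨A, hA, hηA, hAle⟩
      have hAW : A ≤ W₁ := (hAle.trans inf_le_right).trans (hleW₁ η)
      obtain ⟨g, hg⟩ := hℓ₁.exists_coord (f.preimage_mono hAW)
        (res L (f.preimage_mono (hAle.trans inf_le_left)) (q y))
      obtain ⟨g', hg'⟩ := (hq y).exists_coord (f.preimage_mono (hAle.trans inf_le_left))
        (res L (f.preimage_mono hAW) ℓ₁)
      have hu : IsUnit g := IsUnit.of_mul_eq_one g' ((hq y).coord_unique
        (f.preimage_mono (hAle.trans inf_le_left)) (by rw [mul_smul, ← hg', ← hg, one_smul]))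
      obtain ⟨c, hηc, hc⟩ := exists_unit_lift f V hA
        ((hAle.trans inf_le_right).trans (hOV η)) hηA hu
      refine ⟨Y.basicOpen c, hηc, ((Y.basicOpen_le c).trans hAle).trans inf_le_right,
        resR ((inf_le_right : P y ⊓ Y.basicOpen c ≤ _).trans (Y.basicOpen_le c)) c,
        isUnit_resR _ c inf_le_right, fun hle => ?_⟩
      have := congrArg (res L (f.preimage_mono
        ((inf_le_right : P y ⊓ Y.basicOpen c ≤ _).trans (Y.basicOpen_le c)))) hg
      rw [res_res, res_smul, res_res] at this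
      rw [app_resR, show f.app A c = g from hc]
      exact this
    · refine ⟨O η, hηO η, le_rfl, 1, isUnit_one, fun hle => res_eq_of_disjoint ?_ _ _⟩
      have : P y ⊓ O η = ⊥ := Opens.ext (Set.eq_empty_iff_forall_notMem.2 fun z hz => by
        obtain ⟨ξ, hξ, hξz⟩ := exists_genPt z
        have h2 : ξ ∈ O η := hξz.mem_open (O η).2 hz.2
        have : (⟨ξ, hξ⟩ : genPts Y) = η := by
          by_contra hne
          have := hOd _ _ hne
          exact (show ξ ∈ (⊥ : Y.Opens) from this ▸ ⟨hηO ⟨ξ, hξ⟩, h2⟩)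
        exact hη (this ▸ hξz.mem_open (P y).2 hz.1))
      rw [this]
      rfl
  choose A₀ hηA₀ hA₀O c₀ hc₀ heq₀ using hlift
  have : Finite B := hB.to_subtype
  let A : genPts Y → Y.Opens := fun η => O η ⊓ ⟨⋂ y, (A₀ η y : Set Y),
    isOpen_iInter_of_finite fun y => (A₀ η y).2⟩
  have hAle : ∀ η y, A η ≤ A₀ η y := fun η y z hz => Set.mem_iInter.1 hz.2 y
  let W₀ : Y.Opens := ⨆ η, A η
  have hW₀₁ : W₀ ≤ W₁ := iSup_le fun η => inf_le_left.trans (hleW₁ η)
  let B' : Set Y := (W₀ : Set Y)ᶜ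
  have hB' : B'.Finite := finite_compl_of_genPts_subset hdim W₀.2 fun η hη =>
    Opens.mem_iSup.2 ⟨⟨η, hη⟩, hηO ⟨η, hη⟩, Set.mem_iInter.2 fun y => hηA₀ ⟨η, hη⟩ y⟩
  have hcl : ∀ z ∈ B', IsClosed ({z} : Set Y) := fun z hz =>
    isClosed_singleton_of_notMem_genPts hdim fun hg =>
      hz (Opens.mem_iSup.2 ⟨⟨z, hg⟩, hηO ⟨z, hg⟩, Set.mem_iInter.2 fun y => hηA₀ ⟨z, hg⟩ y⟩)
  have hiso : ∀ a : B', ∃ T : Y.Opens, a.1 ∈ T ∧ ∀ z ∈ T, z ∈ B' → z = a.1 := fun a => by
    have hfin : (B' \ {a.1}).Finite := hB'.subset Set.sdiff_subset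
    have hclosed : IsClosed (B' \ {a.1}) := by
      rw [← Set.biUnion_of_singleton (B' \ {a.1})]
      exact hfin.isClosed_biUnion fun z hz => hcl z hz.1
    exact ⟨⟨_, hclosed.isOpen_compl⟩, fun h => h.2 rfl, fun z hz hzB => by
      by_contra hne; exact hz ⟨hzB, hne⟩⟩
  choose T haT hTB using hiso
  -- the charts at the points outside `W₀`
  have hdata : ∀ a : B', ∃ (U : Y.Opens) (ℓ : Γ(L, f ⁻¹ᵁ U)) (c : Γ(Y, U ⊓ W₀)), a.1 ∈ U ∧ U ≤ T a ∧
      IsFrame ℓ ∧ IsUnit c ∧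
        res L (f.preimage_mono (inf_le_left : U ⊓ W₀ ≤ U)) ℓ = f.app (U ⊓ W₀) c •
          res L (f.preimage_mono ((inf_le_right : U ⊓ W₀ ≤ W₀).trans hW₀₁)) ℓ₁ := fun a => by
    by_cases haW : a.1 ∈ W₁
    · refine ⟨W₁ ⊓ T a, res L (f.preimage_mono inf_le_left) ℓ₁, 1, ⟨haW, haT a⟩, inf_le_right,
        hℓ₁.res _, isUnit_one, ?_⟩
      rw [map_one, one_smul, res_res]
    · let y : B := ⟨a.1, haW⟩
      let U : Y.Opens := P y ⊓ T a
      obtain ⟨c, hc, hcA⟩ := exists_glue_units (fun η => U ⊓ A η) (U ⊓ W₀)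
        (fun η => inf_le_inf_left _ (le_iSup A η))
        (fun p hp => (Opens.mem_iSup.1 hp.2).imp fun η hη => ⟨hp.1, hη⟩)
        (fun η η' h => le_bot_iff.1 ((inf_le_inf (inf_le_right.trans inf_le_left)
          (inf_le_right.trans inf_le_left)).trans (hOd η η' h).le))
        (fun η => resR (inf_le_inf (inf_le_left : U ≤ P y) (hAle η y)) (c₀ η y))
        (fun η => (hc₀ η y).map _)
      refine ⟨U, res L (f.preimage_mono inf_le_left) (q y), c, ⟨hyP y, haT a⟩, inf_le_right,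
        (hq y).res _, hc, ?_⟩
      refine eq_of_locally _ _ fun p hp => ?_
      obtain ⟨η, hη⟩ := Opens.mem_iSup.1 hp.2
      have hle : U ⊓ A η ≤ U ⊓ W₀ := inf_le_inf_left _ (le_iSup A η)
      refine ⟨f ⁻¹ᵁ (U ⊓ A η), f.preimage_mono hle, ⟨hp.1, hη⟩, ?_⟩
      have h := congrArg (res L (f.preimage_mono (inf_le_inf (inf_le_left : U ≤ P y) (hAle η y))))
        (heq₀ η y ((hA₀O η y).trans (hleW₁ η)))
      rw [res_res, res_smul, res_res, ← app_resR] at h
      rw [res_res, res_res, res_smul, res_res, ← app_resR f hle, hcA η]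
      exact h
  choose U ℓ c haU hUT hℓ hc heq using hdata
  obtain ⟨N, hN, h⟩ := exists_of_core (κ := PUnit.{1}) (fun _ => f) (fun _ => L) W₀
    (fun _ => res L (f.preimage_mono hW₀₁) ℓ₁) (fun _ => hℓ₁.res _) (O := U)
    (fun y => (Classical.em (y ∈ W₀)).imp id fun h => ⟨⟨y, h⟩, haU _⟩)
    (fun a b hab z hz => by
      by_contra hzW
      exact hab (Subtype.ext ((hTB a z (hUT a hz.1) hzW).symm.trans (hTB b z (hUT b hz.2) hzW))))
    (fun a _ => ℓ a) (fun a _ => hℓ a) c hc fun a _ => by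
      rw [res_res]
      exact heq a
  exact ⟨N, hN, h ⟨⟩⟩

end Groth.Agent.VarPicOne
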