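import Groth.Agent.VarPicOne.Gg
import Groth.Agent.VarPicOne.Closed
import Groth.Agent.S1664
import Groth.Agent.S2153
import Groth.Agent.H23.RedSub
import Groth.Agent.AmpleX.RelAffine
import Mathlib.AlgebraicGeometry.Limits

/-!
# One-dimensional separated schemes have ample invertible modules
-/

set_option backward.isDefEq.respectTransparency false
set_option backward.isDefEq.respectTransparency.types false

universe u

open CategoryTheory AlgebraicGeometry TopologicalSpace Opposite

noncomputable section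

namespace Groth.Agent.VarPicOne

variable {X : Scheme.{u}}

theorem ringKrullDim_stalk_le (X : Scheme.{u}) (x : X) :
    ringKrullDim (X.presheaf.stalk x) ≤ topologicalKrullDim X := by
  rw [← PrimeSpectrum.topologicalKrullDim_eq_ringKrullDim]
  exact (X.fromSpecStalk x).isEmbedding.isInducing.topologicalKrullDim_le

/-- An affine open containing a given point and all the generic points. -/
theorem exists_affine_mem [NoetherianSpace X] (p : X) :
    ∃ U : X.Opens, IsAffineOpen U ∧ p ∈ U ∧ genPts X ⊆ U := by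
  classical
  have hfin : (genPts X).Finite := finite_genPts
  let P : Set X → X.Opens := fun S => ⟨(⋃ ξ ∈ genPts X ∩ S, closure {ξ})ᶜ,
    ((hfin.subset Set.inter_subset_left).isClosed_biUnion fun _ _ => isClosed_closure).isOpen_compl⟩
  have hPmem : ∀ (S : Set X) (z : X), (∀ ξ ∈ genPts X, ξ ⤳ z → ξ ∉ S) → z ∈ P S := fun S z h hz => by
    obtain ⟨ξ, hξ, hzξ⟩ := Set.mem_iUnion₂.1 hz
    exact h ξ hξ.1 (specializes_iff_mem_closure.2 hzξ) hξ.2
  have hPgen : ∀ (S : Set X) (z : X), z ∈ P S → ∀ ξ ∈ genPts X, ξ ⤳ z → ξ ∉ S := fun S z hz ξ hξ h hS =>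
    hz (Set.mem_iUnion₂.2 ⟨ξ, ⟨hξ, hS⟩, h.mem_closure⟩)
  let ι := Option {η : genPts X // ¬ η.1 ⤳ p}
  have : Finite (genPts X) := hfin.to_subtype
  let c : ι → X := fun o => o.elim p (fun η => η.1.1)
  let S : ι → Set X := fun o => o.elim {ξ | ¬ ξ ⤳ p} (fun η => {ξ | ξ ≠ η.1.1})
  have hc : ∀ o, c o ∈ P (S o) := fun o => by
    refine hPmem _ _ fun ξ hξ hspec => ?_
    rcases o with _ | η
    · exact fun h => h hspec
    · exact fun h => h (η.1.2 ξ hspec)
  have hV : ∀ o, ∃ V : X.Opens, IsAffineOpen V ∧ c o ∈ V ∧ V ≤ P (S o) := fun o => by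
    obtain ⟨_, ⟨V, hV, rfl⟩, hmem, hle⟩ :=
      X.isBasis_affineOpens.exists_subset_of_mem_open (hc o) (P (S o)).2
    exact ⟨V, hV, hmem, hle⟩
  choose V hV hcV hVP using hV
  refine ⟨⨆ o, V o, IsAffineOpen.iSup_of_disjoint hV ?_, Opens.mem_iSup.2 ⟨none, hcV none⟩,
    fun η hη => ?_⟩
  · intro o o' hne
    rw [Function.onFun, disjoint_iff, eq_bot_iff]
    rintro y ⟨hy, hy'⟩
    obtain ⟨ξ, hξ, hξy⟩ := exists_genPt y
    have h1 := hPgen _ _ (hVP o hy) ξ hξ hξy
    have h2 := hPgen _ _ (hVP o' hy') ξ hξ hξy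
    exfalso
    rcases o with _ | η <;> rcases o' with _ | η'
    · exact hne rfl
    · exact h1 (fun h => η'.2 ((not_not.1 h2) ▸ h))
    · exact h2 (fun h => η.2 ((not_not.1 h1) ▸ h))
    · exact hne (congrArg some (Subtype.ext (Subtype.ext ((not_not.1 h1).symm.trans (not_not.1 h2)))))
  · by_cases hηp : η ⤳ p
    · exact Opens.mem_iSup.2 ⟨none, hηp.mem_open (V none).2 (hcV none)⟩
    · exact Opens.mem_iSup.2 ⟨some ⟨⟨η, hη⟩, hηp⟩, hcV _⟩

/-- The reduced case. -/
theorem exists_ample_of_isReduced [IsReduced X] [IsNoetherian X] [X.IsSeparated]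
    (hdim : topologicalKrullDim X ≤ 1) : ∃ L : X.Modules, CohB1.IsAmple L := by
  refine S1664.result X fun p => ?_
  obtain ⟨U, hU, hpU, hG⟩ := exists_affine_mem p
  have hclosed : ∀ x : X, x ∉ U → IsClosed ({x} : Set X) := fun x hx =>
    isClosed_singleton_of_notMem_genPts hdim fun h => hx (hG h)
  obtain ⟨a, ha⟩ := exists_pole finite_genPts hU hG (finite_compl_of_genPts_subset hdim U.2 hG) hclosed
    fun x _ => ⟨inferInstance, (ringKrullDim_stalk_le X x).trans hdim⟩
  obtain ⟨L, s, hL, hgg, hs⟩ := exists_gg_of_pole a ha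
  exact ⟨L, s, hL, hgg, hs.symm ▸ hpU, hs.symm ▸ hU⟩

theorem exists_ample_of_dim_le_one [IsNoetherian X] [X.IsSeparated]
    (hdim : topologicalKrullDim X ≤ 1) : ∃ L : X.Modules, CohB1.IsAmple L := by
  let I := Scheme.IdealSheafData.vanishingIdeal (⊤ : Closeds X)
  let i := I.subschemeι
  have hrange : Set.range i = Set.univ := by
    rw [H23.RedSub.range_vanishingIdeal]; rfl
  have hi : IsHomeomorph i.base := isHomeomorph_iff_isEmbedding_surjective.2
    ⟨i.isEmbedding, Set.range_eq_univ.1 hrange⟩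
  have : IsNoetherian I.subscheme := by
    have : IsLocallyNoetherian I.subscheme := LocallyOfFiniteType.isLocallyNoetherian i
    have : CompactSpace I.subscheme := i.isClosedEmbedding.compactSpace
    exact {}
  have : I.subscheme.IsSeparated := by
    have h : IsSeparated (i ≫ Limits.terminal.from X) := inferInstance
    rw [Limits.terminal.comp_from] at h
    exact ⟨h⟩
  have hdim' : topologicalKrullDim I.subscheme ≤ 1 :=
    i.isEmbedding.isInducing.topologicalKrullDim_le.trans hdim
  obtain ⟨L, hL⟩ := exists_ample_of_isReduced hdim'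
  have : IsClosedImmersion (i ∣_ ⊤) :=
    IsZariskiLocalAtTarget.restrict (P := @IsClosedImmersion) (inferInstance : IsClosedImmersion i) _
  obtain ⟨M, hM, ⟨e⟩⟩ := exists_descent_closed i hdim ⊤ dense_univ L hL.1
  exact ⟨M, (S2153.result i hi M hM).1 (AmpleX.isAmple_of_iso e.symm hL)⟩

end Groth.Agent.VarPicOne
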