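import Mathlib.AlgebraicGeometry.Scheme
import Mathlib.AlgebraicGeometry.Properties
import Mathlib.Topology.NoetherianSpace
import Mathlib.Topology.KrullDimension
import Mathlib.Order.KrullDimension

/-!
# Generic points of a Noetherian space of dimension at most one
-/

universe u

open AlgebraicGeometry TopologicalSpace

namespace Groth.Agent.VarPicOne

variable {Y : Scheme.{u}}

/-- The points with no proper generization. -/
def genPts (Y : Scheme.{u}) : Set Y := {η | ∀ y : Y, y ⤳ η → y = η}

theorem exists_genPt (y : Y) : ∃ η ∈ genPts Y, η ⤳ y := by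
  obtain ⟨η, hη⟩ : ∃ η : Y, IsGenericPoint η (irreducibleComponent y) :=
    QuasiSober.sober isIrreducible_irreducibleComponent isClosed_irreducibleComponent
  refine ⟨η, fun z hz => ?_, hη.specializes mem_irreducibleComponent⟩
  have h1 : irreducibleComponent y ⊆ closure {z} := by
    rw [← hη.def]; exact isClosed_closure.closure_subset_iff.2 (by simpa using hz.mem_closure)
  have h2 : closure {z} ⊆ irreducibleComponent y :=
    (irreducibleComponent_mem_irreducibleComponents y).2 isIrreducible_singleton.closure h1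
  exact ((specializes_iff_mem_closure.2 (hη.def.symm ▸ h2 (subset_closure rfl) : z ∈ closure {η})).antisymm hz).eq.symm

theorem finite_genPts [NoetherianSpace Y] : (genPts Y).Finite := by
  have hfin : (irreducibleComponents Y).Finite := NoetherianSpace.finite_irreducibleComponents
  refine Set.Finite.of_finite_image (f := fun η => closure ({η} : Set Y)) (hfin.subset ?_)
    (fun a ha b hb h => ?_)
  · rintro _ ⟨η, hη, rfl⟩
    refine ⟨isIrreducible_singleton.closure, fun S hS hle => ?_⟩
    obtain ⟨ξ, hξ⟩ : ∃ ξ : Y, IsGenericPoint ξ (closure S) := QuasiSober.sober hS.closure isClosed_closure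
    have : ξ = η := hη ξ (hξ.specializes (subset_closure (hle (subset_closure rfl))))
    subst this
    exact subset_closure.trans hξ.def.symm.subset
  · simp only at h
    exact hb a (specializes_iff_mem_closure.2 (h ▸ subset_closure rfl))

theorem eq_of_specializes_genPt {η y : Y} (hη : η ∈ genPts Y) (h : y ⤳ η) : y = η := hη y h

theorem genPt_mem_of_dense [NoetherianSpace Y] {V : Set Y} (hV : IsOpen V) (hd : Dense V) {η : Y}
    (hη : η ∈ genPts Y) : η ∈ V := by
  let O : Set Y := (⋃ ξ ∈ genPts Y \ {η}, closure {ξ})ᶜ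
  have hO : IsOpen O :=
    ((finite_genPts.subset Set.sdiff_subset).isClosed_biUnion fun _ _ => isClosed_closure).isOpen_compl
  have hηO : η ∈ O := fun h => by
    obtain ⟨ξ, hξ, hηξ⟩ := Set.mem_iUnion₂.1 h
    exact hξ.2 (hη ξ (specializes_iff_mem_closure.2 hηξ))
  obtain ⟨z, hzO, hzV⟩ := hd.inter_open_nonempty O hO ⟨η, hηO⟩
  obtain ⟨ξ, hξ, hξz⟩ := exists_genPt z
  have : ξ = η := by
    by_contra hne
    exact hzO (Set.mem_iUnion₂.2 ⟨ξ, ⟨hξ, hne⟩, hξz.mem_closure⟩)
  exact this ▸ hξz.mem_open hV hzV

theorem isClosed_singleton_of_notMem_genPts (hdim : topologicalKrullDim Y ≤ 1) {x : Y}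
    (hx : x ∉ genPts Y) : IsClosed ({x} : Set Y) := by
  obtain ⟨y, hyx, hne⟩ : ∃ y : Y, y ⤳ x ∧ x ≠ y := by
    simp only [genPts, Set.mem_ofPred_eq, not_forall] at hx
    obtain ⟨y, hy, hne⟩ := hx
    exact ⟨y, hy, Ne.symm hne⟩
  rw [← closure_eq_iff_isClosed]
  refine subset_antisymm (fun z hz => ?_) subset_closure
  by_contra hzx
  have key : ∀ {p q : Y}, q ⤳ p → p ≠ q →
      (⟨closure {p}, isIrreducible_singleton.closure, isClosed_closure⟩ : IrreducibleCloseds Y) <
        ⟨closure {q}, isIrreducible_singleton.closure, isClosed_closure⟩ := by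
    intro p q h hne
    rw [← SetLike.coe_ssubset_coe]
    refine ⟨isClosed_closure.closure_subset_iff.2 (by simpa using h.mem_closure), fun hle => hne ?_⟩
    exact ((specializes_iff_mem_closure.2 (hle (subset_closure rfl))).antisymm h).eq
  let s : LTSeries (IrreducibleCloseds Y) :=
    RelSeries.cons ((RelSeries.singleton _ _).cons _ (key hyx hne))
      ⟨closure {z}, isIrreducible_singleton.closure, isClosed_closure⟩
      (by simp only [RelSeries.head_cons]; exact key (specializes_iff_mem_closure.2 hz) hzx)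
  have h2 : (2 : WithBot ℕ∞) ≤ topologicalKrullDim Y := by
    refine le_trans (le_of_eq ?_) (Order.LTSeries.length_le_krullDim s)
    simp only [s, RelSeries.cons_length, RelSeries.singleton_length]
    rfl
  exact absurd (h2.trans hdim) (by decide)

theorem finite_compl_of_genPts_subset [NoetherianSpace Y] (hdim : topologicalKrullDim Y ≤ 1)
    {W : Set Y} (hW : IsOpen W) (hG : genPts Y ⊆ W) : Wᶜ.Finite := by
  obtain ⟨S, hS, hirr, heq⟩ := NoetherianSpace.exists_finite_set_closeds_irreducible
    (⟨Wᶜ, hW.isClosed_compl⟩ : Closeds Y)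
  have hsub : Wᶜ ⊆ ⋃ t ∈ S, (t : Set Y) := by
    have h : sSup S ≤ ⟨⋃ t ∈ S, (t : Set Y), hS.isClosed_biUnion fun t _ => t.isClosed⟩ :=
      sSup_le fun t ht z hz => Set.mem_iUnion₂.2 ⟨t, ht, hz⟩
    rw [← heq] at h
    exact h
  refine (hS.biUnion fun t ht => ?_).subset hsub
  have htW : (t : Set Y) ⊆ Wᶜ := by
    have h := le_sSup ht
    rw [← heq] at h
    exact h
  obtain ⟨ξ, hξ⟩ : ∃ ξ : Y, IsGenericPoint ξ (t : Set Y) := QuasiSober.sober (hirr t ht) t.isClosed
  rw [← hξ.def, (isClosed_singleton_of_notMem_genPts hdim fun h =>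
    htW hξ.mem (hG h)).closure_eq]
  exact Set.finite_singleton ξ

end Groth.Agent.VarPicOne
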