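import Groth.Agent.VarPicOne.Ample
import Groth.Agent.VarPicOne.Embed
import Groth.Agent.VarPicOne.Gen
import Groth.Agent.VarDim.Top
import Groth.Agent.VarDim.Fibre
import Mathlib.AlgebraicGeometry.Morphisms.SchemeTheoreticallyDominant

/-!
# Projective completion of a scheme of dimension at most one
-/

set_option backward.isDefEq.respectTransparency false

universe u

open CategoryTheory CategoryTheory.Limits AlgebraicGeometry TopologicalSpace

namespace Groth.Agent.VarPicOne

/-- The factorisation through the scheme-theoretic image is scheme-theoretically dominant. -/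
theorem isSchemeTheoreticallyDominant_toImage {X Y : Scheme.{u}} (f : X ⟶ Y) [QuasiCompact f] :
    IsSchemeTheoreticallyDominant f.toImage := by
  refine ⟨Scheme.IdealSheafData.ext_of_iSup_eq_top
    (fun U : Y.affineOpens => ⟨f.imageι ⁻¹ᵁ U.1, U.2.preimage f.imageι⟩) ?_ fun U => ?_⟩
  · rw [← Scheme.Hom.preimage_iSup, iSup_affineOpens_eq_top, Scheme.Hom.preimage_top]
  · rw [Scheme.Hom.ker_apply, Scheme.IdealSheafData.ideal_bot, Pi.bot_apply,
      ← RingHom.injective_iff_ker_eq_bot]
    exact f.toImage_app_injective U

/-- A separated scheme of finite type over a field of dimension at most one is a dense open subscheme,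
with finite complement consisting of closed points, of a closed subscheme of projective space of
dimension at most one. -/
theorem exists_completion {k : Type u} [Field k] {X : Scheme.{u}} (f : X ⟶ Spec (CommRingCat.of k))
    [IsSeparated f] [LocallyOfFiniteType f] [QuasiCompact f] (hdim : topologicalKrullDim X ≤ 1) :
    ∃ (d : ℕ) (Y : Scheme.{u}) (c : Y ⟶ CohB1.ProjSpace d k) (j : X ⟶ Y), IsClosedImmersion c ∧
      IsOpenImmersion j ∧ j ≫ c ≫ CohB1.ProjSpace.toSpec d k = f ∧
      Dense (Set.range j.base) ∧ IsSchemeTheoreticallyDominant j ∧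
      (Set.range j.base)ᶜ.Finite ∧ (∀ y ∈ (Set.range j.base)ᶜ, IsClosed ({y} : Set Y)) ∧
      topologicalKrullDim Y ≤ 1 := by
  have : X.IsSeparated := ⟨by rw [← Limits.terminal.comp_from f]; infer_instance⟩
  have : IsLocallyNoetherian X := LocallyOfFiniteType.isLocallyNoetherian f
  have : CompactSpace X := QuasiCompact.compactSpace_of_compactSpace f
  have : IsNoetherian X := {}
  obtain ⟨L, hL⟩ := exists_ample_of_dim_le_one hdim
  obtain ⟨d, r, hr, hrf⟩ := Embed.exists_immersion f hL
  let p : r.image ⟶ Spec (CommRingCat.of k) := r.imageι ≫ CohB1.ProjSpace.toSpec d k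
  have : IsProper (CohB1.ProjSpace.toSpec d k) := PnCoh.Chow.isProper_toSpec d k
  have : IsProper p := MorphismProperty.comp_mem _ _ _ inferInstance inferInstance
  have hjp : r.toImage ≫ p = f := by rw [← hrf, ← Category.assoc, r.toImage_imageι]
  have : IsLocallyNoetherian r.image := LocallyOfFiniteType.isLocallyNoetherian p
  have : CompactSpace r.image := QuasiCompact.compactSpace_of_compactSpace p
  have : IsNoetherian r.image := {}
  have hd : Dense (Set.range r.toImage.base) := r.toImage.denseRange
  have hopen : IsOpen (Set.range r.toImage.base) := r.toImage.isOpenEmbedding.isOpen_range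
  have hG : genPts r.image ⊆ Set.range r.toImage.base := fun η hη => genPt_mem_of_dense hopen hd hη
  have hY : topologicalKrullDim r.image ≤ 1 := by
    rw [VarDim.topologicalKrullDim_eq_iSup_deg p]
    refine iSup_le fun y => ?_
    obtain ⟨η, hη, hy⟩ := exists_genPt y
    obtain ⟨x, rfl⟩ := hG hη
    have h1 := VarDim.deg_le_of_specializes p hy
    have h2 := VarDim.deg_map_le r.toImage p hjp x
    have h3 : ((VarDim.deg f x : ℕ∞) : WithBot ℕ∞) ≤ 1 := by
      refine le_trans ?_ hdim
      rw [VarDim.topologicalKrullDim_eq_iSup_deg f]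
      exact le_iSup_of_le x le_rfl
    exact le_trans (by exact_mod_cast h1.trans h2) h3
  exact ⟨d, r.image, r.imageι, r.toImage, inferInstance, inferInstance, hjp, hd,
    isSchemeTheoreticallyDominant_toImage r, finite_compl_of_genPts_subset hY hopen hG,
    fun y hy => isClosed_singleton_of_notMem_genPts hY fun h => hy (hG h), hY⟩

end Groth.Agent.VarPicOne
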