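import Groth.Agent.VarPicOne.Chart

/-!
# Invertible modules and one-dimensional punctures
-/

set_option backward.isDefEq.respectTransparency false
set_option backward.isDefEq.respectTransparency.types false

universe u

open CategoryTheory AlgebraicGeometry TopologicalSpace Opposite

noncomputable section

namespace Groth.Agent.VarPicOne

open Groth.Agent.AModX Groth.Agent.InvX

variable {X : Scheme.{u}} {U : X.Opens}

theorem isFrame_one (Y : Scheme.{u}) {V : Y.Opens} {g : Γ(Y, V)} (hg : IsUnit g) :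
    IsFrame (M := Coh.structureModule Y) (show Γ(Coh.structureModule Y, V) from g) := fun W hW => by
  have hu : IsUnit (resR hW g) := hg.map _
  exact hu.unit.mulRight_bijective

variable [QuasiCompact U.ι] (hdisc : DiscreteTopology ↥((U : Set X)ᶜ))
  (hloc : ∀ x : X, x ∉ U → IsNoetherianRing (X.presheaf.stalk x) ∧ ringKrullDim (X.presheaf.stalk x) ≤ 1)

include hdisc hloc in
/-- Surjectivity of restriction on invertible modules. -/
theorem exists_restrict_iso (N : U.toScheme.Modules) (hN : PicF.IsInvertible N) :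
    ∃ L : X.Modules, PicF.IsInvertible L ∧ Nonempty (L.restrict U.ι ≅ N) := by
  have hc : ∀ x : {x : X // x ∉ U}, ∃ (V : X.Opens) (e : Γ(N, U.ι ⁻¹ᵁ V)), x.1 ∈ V ∧
      (∀ y ∈ V, y ∉ U → y = x.1) ∧ IsFrame e := fun x => by
    have := (hloc x.1 x.2).1
    obtain ⟨V, t, e, h1, h2, -, h4⟩ := exists_chart hdisc x.2 (hloc x.1 x.2).2 N hN
    exact ⟨V, e, h1, h2, h4⟩
  choose V eV hxV hVU heV using hc
  choose W hW eW heW using fun p : U.toScheme => InvX.exists_frame hN p
  let O : (U.toScheme ⊕ {x : X // x ∉ U}) → X.Opens := Sum.elim (fun p => U.ι ''ᵁ W p) V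
  let e : ∀ a, Γ(N, U.ι ⁻¹ᵁ O a) := fun a => match a with
    | .inl p => res N (U.ι.preimage_image_eq (W p)).le (eW p)
    | .inr x => eV x
  have he : ∀ a, IsFrame (e a) := fun a => match a with
    | .inl p => (heW p).res _
    | .inr x => heV x
  have hsep : ∀ a b, a ≠ b → O a ⊓ O b ≤ U := by
    rintro (p | x) b hab y ⟨hya, hyb⟩
    · exact U.ι_image_le _ hya
    · rcases b with p | x'
      · exact U.ι_image_le _ hyb
      · by_contra hy
        exact hab (congrArg Sum.inr (Subtype.ext ((hVU x y hya hy).symm.trans (hVU x' y hyb hy))))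
  obtain ⟨L, f, hL, -, hiso, -⟩ := exists_extend e he hsep fun y => by
    by_cases hy : y ∈ U
    · exact ⟨.inl ⟨y, hy⟩, ⟨_, hW ⟨y, hy⟩, rfl⟩⟩
    · exact ⟨.inr ⟨y, hy⟩, hxV _⟩
  exact ⟨L, hL, hiso⟩

include hdisc hloc in
/-- An invertible module with a section generating exactly on `U`. -/
theorem exists_section (hinv : PicF.IsInvertible (Coh.structureModule U.toScheme)) :
    ∃ (L : X.Modules) (s : Coh.structureModule X ⟶ L), PicF.IsInvertible L ∧ CohB1.genLocus L s = U := by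
  have hc : ∀ x : {x : X // x ∉ U}, ∃ (V : X.Opens) (t : Γ(X, V)), x.1 ∈ V ∧
      (∀ y ∈ V, y ∉ U → y = x.1) ∧ V ⊓ U = X.basicOpen t := fun x => by
    have := (hloc x.1 x.2).1
    obtain ⟨V, t, e, h1, h2, h3, -⟩ := exists_chart hdisc x.2 (hloc x.1 x.2).2 _ hinv
    exact ⟨V, t, h1, h2, h3⟩
  choose V t hxV hVU hVt using hc
  have hu : ∀ x, IsUnit (show Γ(U.toScheme, U.ι ⁻¹ᵁ V x) from
      resR (X := X) (U.ι.image_preimage_le (V x)) (t x)) := fun x => by
    refine isUnit_resR (X := X) _ (t x) ?_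
    rw [← hVt x, Scheme.Hom.image_preimage_eq_opensRange_inf, Scheme.Opens.opensRange_ι, inf_comm]
  let O : (PUnit.{u + 1} ⊕ {x : X // x ∉ U}) → X.Opens := Sum.elim (fun _ => U) V
  let e : ∀ a, Γ(Coh.structureModule U.toScheme, U.ι ⁻¹ᵁ O a) := fun a => match a with
    | .inl _ => (1 : Γ(U.toScheme, U.ι ⁻¹ᵁ U))
    | .inr x => (((hu x).unit⁻¹ : Γ(U.toScheme, U.ι ⁻¹ᵁ V x)ˣ) : Γ(U.toScheme, U.ι ⁻¹ᵁ V x))
  have he : ∀ a, IsFrame (e a) := fun a => match a with
    | .inl _ => isFrame_one U.toScheme isUnit_one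
    | .inr x => isFrame_one U.toScheme ((hu x).unit⁻¹).isUnit
  have hsep : ∀ a b, a ≠ b → O a ⊓ O b ≤ U := by
    rintro (p | x) b hab y ⟨hya, hyb⟩
    · exact hya
    · rcases b with p | x'
      · exact hyb
      · by_contra hy
        exact hab (congrArg Sum.inr (Subtype.ext ((hVU x y hya hy).symm.trans (hVU x' y hyb hy))))
  have hcov : ∀ y : X, ∃ a, y ∈ O a := fun y => by
    by_cases hy : y ∈ U
    · exact ⟨.inl ⟨⟩, hy⟩
    · exact ⟨.inr ⟨y, hy⟩, hxV _⟩
  obtain ⟨L, f, hL, hf, -, hs⟩ := exists_extend e he hsep hcov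
  let c : ∀ a, Γ(X, O a) := fun a => match a with
    | .inl _ => (1 : Γ(X, U))
    | .inr x => t x
  obtain ⟨s, hsc⟩ := hs c (1 : Γ(U.toScheme, ⊤)) (fun a => by
    refine (map_one (resR (X := U.toScheme) (le_top : U.ι ⁻¹ᵁ O a ≤ ⊤))).trans ?_
    rcases a with p | x
    · show (1 : Γ(U.toScheme, U.ι ⁻¹ᵁ U)) =
        (show Γ(U.toScheme, U.ι ⁻¹ᵁ U) from resR (X := X) (U.ι.image_preimage_le U) (1 : Γ(X, U))) * 1
      rw [mul_one]
      exact (map_one (resR (X := X) (U.ι.image_preimage_le U))).symm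
    · exact ((hu x).mul_val_inv).symm)
  refine ⟨L, s, hL, ?_⟩
  have hloc' : ∀ a, CohB1.genLocus L s ⊓ O a = X.basicOpen (c a) :=
    fun a => genLocus_inf s (hf a) (hsc a)
  ext y
  obtain ⟨a, ha⟩ := hcov y
  have h1 : y ∈ CohB1.genLocus L s ↔ y ∈ X.basicOpen (c a) := by
    rw [← hloc' a]; exact ⟨fun h => ⟨h, ha⟩, fun h => h.1⟩
  show y ∈ CohB1.genLocus L s ↔ y ∈ U
  rw [h1]
  rcases a with p | x
  · show y ∈ X.basicOpen (1 : Γ(X, U)) ↔ _
    rw [Scheme.basicOpen_of_isUnit _ isUnit_one]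
  · show y ∈ X.basicOpen (t x) ↔ _
    rw [← hVt x]
    exact ⟨fun h => h.2, fun h => ⟨ha, h⟩⟩

end Groth.Agent.VarPicOne
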