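import Groth.Agent.VarPicOne.Completion
import Groth.Agent.VarPicOne.Main
import Groth.Agent.VarAmp.Exists
import Groth.Agent.VarAmp.NoCurves

/-!
# A separated curve without proper one-dimensional components is affine
-/

noncomputable section

set_option linter.style.haveILetI false
set_option linter.unusedSectionVars false
set_option backward.isDefEq.respectTransparency false
set_option backward.isDefEq.respectTransparency.types false

universe u

open CategoryTheory CategoryTheory.Limits AlgebraicGeometry TopologicalSpace

namespace Groth.Agent.VarPicOne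

open Groth.Agent

variable {k : Type u} [Field k] {X Y : Scheme.{u}} {f : X ⟶ Spec (CommRingCat.of k)}
  {p : Y ⟶ Spec (CommRingCat.of k)} [IsProper p] [LocallyOfFiniteType f] {j : X ⟶ Y} [IsOpenImmersion j]
  [IsNoetherian X]

/-- A one-dimensional closed point closure in the completion is not contained in `X`. -/
theorem not_subset_of_no_proper (hjp : j ≫ p = f) (hY : topologicalKrullDim Y ≤ 1)
    (h : ∀ (C : Set X) (hC : C ∈ irreducibleComponents (X : Type u)), topologicalKrullDim C = 1 →
      ¬ IsProper ((X.irreducibleComponentIdeal C hC).radical.subschemeι ≫ f))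
    {η : Y} (hη : topologicalKrullDim ↥(closure ({η} : Set Y)) = 1) :
    ¬ closure ({η} : Set Y) ⊆ Set.range j.base := by
  intro hsub
  obtain ⟨x, rfl⟩ := hsub (subset_closure rfl)
  rw [VarDim.topologicalKrullDim_closure_singleton p] at hη
  have hd : VarDim.deg p (j x) = 1 := by exact_mod_cast hη
  have hdx : VarDim.deg f x = 1 := by
    have h0 : VarDim.fdeg j x = 0 := by
      simp [VarDim.fdeg, VarDim.rdeg_preimmersion]
    rw [VarDim.deg_eq_add j p hjp x, hd, h0]
  have hmax : ∀ y, y ⤳ x → y = x := fun y hy => by
    refine j.isOpenEmbedding.injective (VarDim.eq_of_specializes_of_deg_le (p := p) (hy.map j.continuous) ?_)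
    rw [hd]
    have := le_trans (le_iSup_of_le (j y) le_rfl)
      ((VarDim.topologicalKrullDim_eq_iSup_deg p).symm.trans_le hY)
    exact_mod_cast this
  have hC := VarDim.closure_mem_irreducibleComponents hmax
  let I := (X.irreducibleComponentIdeal _ hC).radical
  refine h _ hC (by rw [VarDim.topologicalKrullDim_closure_singleton f, hdx]; rfl) ?_
  show IsProper (I.subschemeι ≫ f)
  have hr : Set.range I.subschemeι = closure ({x} : Set X) := by
    show Set.range (X.irreducibleComponentIdeal _ hC).radical.subschemeι = _
    have hI : (X.irreducibleComponentIdeal _ hC).radical =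
        Scheme.IdealSheafData.vanishingIdeal (⟨closure {x}, isClosed_closure⟩ : Closeds X) := by
      rw [← Scheme.IdealSheafData.vanishingIdeal_support]; rfl
    rw [hI]
    exact H23.RedSub.range_vanishingIdeal _
  have hcl : IsClosed (Set.range (I.subschemeι ≫ j)) := by
    have he : Set.range (I.subschemeι ≫ j) = closure ({j x} : Set Y) := by
      rw [Scheme.Hom.comp_base, TopCat.coe_comp, Set.range_comp, hr,
        j.isOpenEmbedding.isEmbedding.closure_eq_preimage_closure_image, Set.image_singleton,
        Set.image_preimage_eq_of_subset hsub]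
    rw [he]; exact isClosed_closure
  have : IsClosedImmersion (I.subschemeι ≫ j) := IsClosedImmersion.of_isPreimmersion _ hcl
  rw [← hjp, ← Category.assoc]
  infer_instance

/-- Without proper one-dimensional components, a one-dimensional separated scheme of finite type is affine. -/
theorem isAffine_of_no_proper [IsSeparated f] [QuasiCompact f] (hdim : topologicalKrullDim X ≤ 1)
    (h : ∀ (C : Set X) (hC : C ∈ irreducibleComponents (X : Type u)), topologicalKrullDim C = 1 →
      ¬ IsProper ((X.irreducibleComponentIdeal C hC).radical.subschemeι ≫ f)) : IsAffine X := by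
  obtain ⟨d, Y, c, j, hc, hj, hjf, hdense, -, hfin, hclosed, hY⟩ := exists_completion f hdim
  letI : Y.Over (Spec (CommRingCat.of k)) := ⟨c ≫ CohB1.ProjSpace.toSpec d k⟩
  have : IsProper (CohB1.ProjSpace.toSpec d k) := PnCoh.Chow.isProper_toSpec d k
  have : IsProper (Y ↘ Spec (CommRingCat.of k)) :=
    (inferInstance : IsProper (c ≫ CohB1.ProjSpace.toSpec d k))
  have : IsNoetherian Y := CurveCohLib.isNoetherian_of_proper (k := k) (X := Y)
  have : Y.IsSeparated := ⟨by
    rw [← Limits.terminal.comp_from (Y ↘ Spec (CommRingCat.of k))]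
    infer_instance⟩
  have hdisc : DiscreteTopology ↥((j.opensRange : Set Y)ᶜ) := by
    have := hfin.to_subtype
    have : T1Space ↥((Set.range j.base)ᶜ) := ⟨fun y => by
      rw [Topology.IsInducing.subtypeVal.isClosed_iff]
      exact ⟨{y.1}, hclosed y.1 y.2, by ext z; simp [Subtype.ext_iff]⟩⟩
    exact (inferInstance : DiscreteTopology ↥((Set.range j.base)ᶜ))
  obtain ⟨L, s, hL, hs⟩ := exists_section (U := j.opensRange) hdisc
    (fun x _ => ⟨inferInstance, (ringKrullDim_stalk_le Y x).trans hY⟩) InvX.isInvertible_structureModule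
  have hnot := fun {η : Y} (hη : topologicalKrullDim ↥(closure ({η} : Set Y)) = 1) =>
    not_subset_of_no_proper (p := Y ↘ Spec (CommRingCat.of k)) (f := f) hjf hY h hη
  have hG : genPts Y ⊆ Set.range j.base := fun η hη =>
    genPt_mem_of_dense j.isOpenEmbedding.isOpen_range hdense hη
  have hamp : CohB1.IsAmple L := by
    refine (VarAmp.isAmple_iff_deg_components k hY hL).2 fun C hC hC1 => ?_
    have hI := VarAmp.radical_componentIdeal C hC
    let Cl : Closeds Y := ⟨C, isClosed_of_mem_irreducibleComponents C hC⟩
    rw [hI]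
    let Z := (Scheme.IdealSheafData.vanishingIdeal Cl).subscheme
    let i : Z ⟶ Y := (Scheme.IdealSheafData.vanishingIdeal Cl).subschemeι
    have : IsIntegral Z := VarAmp.isIntegral_vanishingIdeal hC.1
    have hZ : topologicalKrullDim Z = 1 := (VarAmp.dim_subscheme Cl).trans hC1
    have hrange : Set.range i = C := H23.RedSub.range_vanishingIdeal Cl
    obtain ⟨η, hη⟩ := QuasiSober.sober hC.1 Cl.isClosed
    have hηj : η ∈ Set.range j.base := hG fun y hy => by
      have h1 : C ⊆ closure {y} := by
        rw [← hη.def]; exact isClosed_closure.closure_subset_iff.2 (by simpa using hy.mem_closure)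
      have h2 : closure {y} ⊆ C := hC.2 isIrreducible_singleton.closure h1
      exact ((hη.specializes (h2 (subset_closure rfl))).antisymm hy).eq.symm
    obtain ⟨z, hz, hzj⟩ := Set.not_subset.1 (hnot (η := η) (by rw [hη.def]; exact hC1))
    rw [hη.def, ← hrange] at hz
    obtain ⟨z₀, rfl⟩ := hz
    obtain ⟨z₁, rfl⟩ : η ∈ Set.range i := hrange ▸ hη.mem
    letI : Z.Over (Spec (CommRingCat.of k)) := ⟨i ≫ (Y ↘ Spec (CommRingCat.of k))⟩
    haveI : IsProper (Z ↘ Spec (CommRingCat.of k)) :=
      (inferInstance : IsProper (i ≫ (Y ↘ Spec (CommRingCat.of k))))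
    obtain ⟨e⟩ := PicClLib.nonempty_pullback_structureModule i
    let σ := e.symm.hom ≫ (Scheme.Modules.pullback i).map s
    have hloc : CohB1.genLocus ((Scheme.Modules.pullback i).obj L) σ = i ⁻¹ᵁ CohB1.genLocus L s :=
      InvX.genLocus_pullback i hL s e.symm
    rw [hs] at hloc
    exact S1519.result k Z hZ _ (PicClLib.isInvertible_pullback i hL) σ
      (VarAmp.ne_zero_of_mem_genLocus (x := z₁) (by rw [hloc]; exact hηj)) z₀
      (fun hz => by rw [hloc] at hz; exact hzj hz)
  obtain ⟨n, hn, hgen⟩ := AmpleX.eventually_ample_tensor hamp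
    (M := Coh.structureModule Y) InvX.isInvertible_structureModule
  obtain ⟨m, rfl⟩ := Nat.exists_eq_add_of_le' hn
  let L' := CohB1.tensorMod (CohB1.tensorPow L (m + 1)) (Coh.structureModule Y)
  let s' : Coh.structureModule Y ⟶ L' := InvX.mulHom (InvX.powHom s (m + 1)) (𝟙 _)
  have hs' : CohB1.genLocus L' s' = j.opensRange := by
    refine (InvX.genLocus_mulHom (InvX.isInvertible_tensorPow hL _) InvX.isInvertible_structureModule
      _ _).trans ?_
    rw [InvX.genLocus_powHom hL, hs]
    refine inf_eq_left.2 (le_top.trans (InvX.le_genLocus _ ?_))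
    rw [AModX.res_self]
    exact InvX.isFrame_one ⊤
  have haff : IsAffineOpen (CohB1.genLocus L' s') := by
    refine VarAmp.isAffineOpen_genLocus k (InvX.isInvertible_tensorMod (InvX.isInvertible_tensorPow hL _)
      InvX.isInvertible_structureModule) (hgen (m + 1) le_rfl).2 s' fun C hC hC1 hsub => ?_
    rw [hs'] at hsub
    have hCr : Set.range C.subschemeι = (C.support : Set Y) := C.range_subschemeι
    have hirr : IsIrreducible (C.support : Set Y) := by
      rw [← hCr, ← Set.image_univ]
      exact (IrreducibleSpace.isIrreducible_univ _).image _ C.subschemeι.continuous.continuousOn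
    obtain ⟨η, hη⟩ := QuasiSober.sober hirr C.support.isClosed
    refine hnot (η := η) (by rw [hη.def]; exact hC1) ?_
    rw [hη.def]; exact hsub
  rw [hs'] at haff
  have : IsAffine j.opensRange.toScheme := haff
  exact IsAffine.of_isIso j.isoOpensRange.hom

end Groth.Agent.VarPicOne
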