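import Groth.Agent.VarPicOne.Extend
import Groth.Agent.InvUfdLib.Semilocal
import Groth.Agent.AffineNhd.Glue
import Groth.Agent.QCoh.Devissage

/-!
# Charts at a point of dimension at most one outside an open
-/

set_option backward.isDefEq.respectTransparency false
set_option backward.isDefEq.respectTransparency.types false

universe u

open CategoryTheory AlgebraicGeometry TopologicalSpace Opposite

namespace Groth.Agent.VarPicOne

open Groth.Agent.AModX Groth.Agent.InvX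

variable {X : Scheme.{u}}

/-- The points generizing `x` strictly. -/
def genF (x : X) : Set X := {y | y ⤳ x ∧ y ≠ x}

theorem exists_prime_of_mem_genF {x y : X} (hy : y ∈ genF x) :
    ∃ q : PrimeSpectrum (X.presheaf.stalk x), X.fromSpecStalk x q = y ∧
      q ≠ IsLocalRing.closedPoint (X.presheaf.stalk x) := by
  obtain ⟨q, rfl⟩ : y ∈ Set.range (X.fromSpecStalk x) := by
    rw [Scheme.range_fromSpecStalk]; exact hy.1
  exact ⟨q, rfl, fun h => hy.2 (by rw [h]; exact Scheme.fromSpecStalk_closedPoint)⟩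

variable {x : X} [IsNoetherianRing (X.presheaf.stalk x)]

omit [IsNoetherianRing (X.presheaf.stalk x)] in
theorem isMin_of_ne_closedPoint (hd : ringKrullDim (X.presheaf.stalk x) ≤ 1)
    {q : PrimeSpectrum (X.presheaf.stalk x)} (hq : q ≠ IsLocalRing.closedPoint (X.presheaf.stalk x)) :
    q.asIdeal ∈ minimalPrimes (X.presheaf.stalk x) := by
  have : Ring.KrullDimLE 1 (X.presheaf.stalk x) := Ring.krullDimLE_iff.2 (by exact_mod_cast hd)
  rcases Ring.krullDimLE_one_iff.1 this q.asIdeal q.2 with h | h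
  · exact h
  · exact absurd (PrimeSpectrum.ext (IsLocalRing.eq_maximalIdeal h)) hq

theorem finite_genF (hd : ringKrullDim (X.presheaf.stalk x) ≤ 1) : (genF x).Finite := by
  have hfin : {q : PrimeSpectrum (X.presheaf.stalk x) |
      q.asIdeal ∈ minimalPrimes (X.presheaf.stalk x)}.Finite :=
    (minimalPrimes.finite_of_isNoetherianRing _).preimage
      (fun a _ b _ h => PrimeSpectrum.ext h)
  refine (hfin.image (fun q => X.fromSpecStalk x q)).subset fun y hy => ?_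
  obtain ⟨q, rfl, hq⟩ := exists_prime_of_mem_genF hy
  exact ⟨q, isMin_of_ne_closedPoint hd hq, rfl⟩

omit [IsNoetherianRing (X.presheaf.stalk x)] in
theorem eq_of_specializes_genF (hd : ringKrullDim (X.presheaf.stalk x) ≤ 1) {y z : X}
    (hy : y ∈ genF x) (hz : z ∈ genF x) (h : y ⤳ z) : y = z := by
  obtain ⟨q, rfl, -⟩ := exists_prime_of_mem_genF hy
  obtain ⟨q', rfl, hq'⟩ := exists_prime_of_mem_genF hz
  have h1 : q ⤳ q' := (X.fromSpecStalk x).isEmbedding.isInducing.specializes_iff.1 h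
  have h2 : q.asIdeal ≤ q'.asIdeal := (PrimeSpectrum.le_iff_specializes q q').2 h1
  rw [PrimeSpectrum.ext (le_antisymm h2 ((isMin_of_ne_closedPoint hd hq').2 ⟨q.2, bot_le⟩ h2))]

theorem exists_sep (hd : ringKrullDim (X.presheaf.stalk x) ≤ 1) {V : X.Opens} (hV : IsAffineOpen V)
    (hx : x ∈ V) : ∃ t : Γ(X, V), x ∉ X.basicOpen t ∧ genF x ⊆ X.basicOpen t := by
  classical
  have hFV : ∀ y ∈ genF x, y ∈ V := fun y hy => hy.1.mem_open V.2 hx
  let f : X → Ideal Γ(X, V) := fun y =>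
    if h : y ∈ V then (hV.primeIdealOf ⟨y, h⟩).asIdeal else ⊤
  have hnot : ¬ (((hV.primeIdealOf ⟨x, hx⟩).asIdeal : Set Γ(X, V)) ⊆
      ⋃ y ∈ ((finite_genF hd).toFinset : Set X), (f y : Set Γ(X, V))) := by
    intro hsub
    rcases (finite_genF hd).toFinset.eq_empty_or_nonempty with hF | ⟨y₀, -⟩
    · rw [hF] at hsub
      simpa using hsub (zero_mem (hV.primeIdealOf ⟨x, hx⟩).asIdeal)
    obtain ⟨y, hy, hle⟩ := (Ideal.subset_union_prime y₀ y₀ fun i hi _ _ => by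
      have hi' := hFV i ((finite_genF hd).mem_toFinset.1 hi)
      rw [show f i = _ from dif_pos hi']
      exact (hV.primeIdealOf ⟨i, hi'⟩).2).1 hsub
    have hy' := (finite_genF hd).mem_toFinset.1 hy
    rw [show f y = _ from dif_pos (hFV y hy')] at hle
    have h1 : x ⤳ y := by
      have h := ((PrimeSpectrum.le_iff_specializes (hV.primeIdealOf ⟨x, hx⟩)
        (hV.primeIdealOf ⟨y, hFV y hy'⟩)).1 hle).map hV.fromSpec.continuous
      rwa [hV.fromSpec_primeIdealOf, hV.fromSpec_primeIdealOf] at h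
    exact hy'.2 (hy'.1.antisymm h1).eq
  obtain ⟨t, htx, ht⟩ := Set.not_subset.1 hnot
  have key : ∀ (y : X) (hy : y ∈ V), y ∈ X.basicOpen t ↔ t ∉ (hV.primeIdealOf ⟨y, hy⟩).asIdeal := by
    intro y hy
    rw [← QCoh.mem_basicOpen_fromSpec hV, hV.fromSpec_primeIdealOf]
  refine ⟨t, fun h => (key x hx).1 h htx, fun y hy => (key y (hFV y hy)).2 fun h => ht ?_⟩
  refine Set.mem_iUnion₂.2 ⟨y, (finite_genF hd).mem_toFinset.2 hy, ?_⟩
  rw [show f y = _ from dif_pos (hFV y hy)]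
  exact h

variable {U : X.Opens}

theorem exists_chart [QuasiCompact U.ι] (hdisc : DiscreteTopology ↥((U : Set X)ᶜ)) (hxU : x ∉ U)
    (hd : ringKrullDim (X.presheaf.stalk x) ≤ 1) (N : U.toScheme.Modules) (hN : PicF.IsInvertible N) :
    ∃ (V : X.Opens) (t : Γ(X, V)) (e : Γ(N, U.ι ⁻¹ᵁ V)), x ∈ V ∧ (∀ y ∈ V, y ∉ U → y = x) ∧
      V ⊓ U = X.basicOpen t ∧ IsFrame e := by
  classical
  obtain ⟨V₀, hV₀, hV₀e⟩ : ∃ V₀ : Set X, IsOpen V₀ ∧ ∀ y, y ∉ U → (y ∈ V₀ ↔ y = x) := by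
    have h : IsOpen ({⟨x, hxU⟩} : Set ↥((U : Set X)ᶜ)) := isOpen_discrete _
    obtain ⟨V₀, hV₀, heq⟩ := isOpen_induced_iff.1 h
    refine ⟨V₀, hV₀, fun y hy => ?_⟩
    have := Set.ext_iff.1 heq ⟨y, hy⟩
    simpa [Subtype.ext_iff] using this
  obtain ⟨V₁, hV₁, hxV₁, hV₁le⟩ :
      ∃ V₁ : X.Opens, IsAffineOpen V₁ ∧ x ∈ V₁ ∧ (V₁ : Set X) ⊆ V₀ := by
    obtain ⟨_, ⟨W, hW, rfl⟩, hxW, hWle⟩ :=
      X.isBasis_affineOpens.exists_subset_of_mem_open ((hV₀e x hxU).2 rfl) hV₀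
    exact ⟨W, hW, hxW, hWle⟩
  have hV₁U : ∀ y ∈ V₁, y ∉ U → y = x := fun y hy hyU => (hV₀e y hyU).1 (hV₁le hy)
  obtain ⟨t, hxt, hFt⟩ := exists_sep hd hV₁ hxV₁
  have htU : X.basicOpen t ≤ U := fun y hy => by
    by_contra hyU
    exact hxt (hV₁U y (X.basicOpen_le t hy) hyU ▸ hy)
  have hA : IsAffineOpen (U.ι ⁻¹ᵁ X.basicOpen t) := by
    refine (U.ι.isAffineOpen_iff_of_isOpenImmersion).1 ?_
    rw [Scheme.Hom.image_preimage_eq_opensRange_inf, Scheme.Opens.opensRange_ι,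
      inf_eq_right.2 htU]
    exact hV₁.basicOpen t
  have hinj : Function.Injective U.ι := U.ι.isOpenEmbedding.injective
  obtain ⟨O, s, hFO, hs⟩ := InvUfdLib.exists_frame_finset hN hA (U.ι ⁻¹' genF x)
    ((finite_genF hd).preimage hinj.injOn) (fun y hy => hFt hy)
    (fun a ha b hb hab => hinj (eq_of_specializes_genF hd ha hb (hab.map U.ι.continuous)))
  let O' : X.Opens := X.basicOpen t ⊓ U.ι ''ᵁ O
  have hFO' : ∀ y ∈ genF x, y ∈ O' := fun y hy =>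
    ⟨hFt hy, ⟨⟨y, htU (hFt hy)⟩, hFO (show y ∈ genF x from hy), rfl⟩⟩
  have : IsAffine V₁.toScheme := hV₁
  have hcpt : IsCompact ((V₁.ι ⁻¹ᵁ U : V₁.toScheme.Opens) : Set V₁.toScheme) := by
    rw [V₁.ι.isOpenEmbedding.isEmbedding.isCompact_iff]
    have h := (U.ι.isCompact_preimage hV₁.isCompact).image U.ι.continuous
    rw [show ((U.ι ⁻¹ᵁ V₁ : U.toScheme.Opens) : Set U.toScheme) = U.ι ⁻¹' (V₁ : Set X) from rfl,
      Set.image_preimage_eq_inter_range, Scheme.Opens.range_ι] at h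
    rw [show (V₁.ι '' ((V₁.ι ⁻¹ᵁ U : V₁.toScheme.Opens) : Set V₁.toScheme)) = (V₁ : Set X) ∩ U by
      rw [show ((V₁.ι ⁻¹ᵁ U : V₁.toScheme.Opens) : Set V₁.toScheme) = V₁.ι ⁻¹' (U : Set X) from rfl,
        Set.image_preimage_eq_inter_range, Scheme.Opens.range_ι, Set.inter_comm]]
    exact h
  have hclos : (⟨x, hxV₁⟩ : V₁.toScheme) ∉ closure
      (((V₁.ι ⁻¹ᵁ U : V₁.toScheme.Opens) : Set V₁.toScheme) \
        ((V₁.ι ⁻¹ᵁ O' : V₁.toScheme.Opens) : Set V₁.toScheme)) := by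
    intro hmem
    obtain ⟨z, hzU, hzO, hzx⟩ := AffineNhd.exists_specializes_of_mem_closure_diff hcpt hmem
    exact hzO (hFO' _ ⟨hzx.map V₁.ι.continuous, fun h => hxU (h ▸ hzU)⟩)
  obtain ⟨V₂, hV₂, hxV₂⟩ := isOpen_induced_iff.1 (isClosed_closure (s :=
      (((V₁.ι ⁻¹ᵁ U : V₁.toScheme.Opens) : Set V₁.toScheme) \
        ((V₁.ι ⁻¹ᵁ O' : V₁.toScheme.Opens) : Set V₁.toScheme)))).isOpen_compl
  let V : X.Opens := V₁ ⊓ ⟨V₂, hV₂⟩
  have hxV : x ∈ V := ⟨hxV₁, (Set.ext_iff.1 hxV₂ ⟨x, hxV₁⟩).2 hclos⟩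
  have hVO : ∀ y ∈ V, y ∈ U → y ∈ O' := fun y hy hyU => by
    by_contra hyO
    exact (Set.ext_iff.1 hxV₂ ⟨y, hy.1⟩).1 hy.2 (subset_closure ⟨hyU, hyO⟩)
  have hle : U.ι ⁻¹ᵁ V ≤ O := fun y hy => by
    obtain ⟨z, hz, hzy⟩ := (hVO _ hy y.2).2
    exact hinj hzy ▸ hz
  refine ⟨V, resR inf_le_left t, res N hle s, hxV, fun y hy => hV₁U y hy.1, ?_, hs.res hle⟩
  rw [show resR (inf_le_left : V ≤ V₁) t = X.presheaf.map (homOfLE inf_le_left).op t from rfl,
    Scheme.basicOpen_res]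
  exact le_antisymm (le_inf inf_le_left fun y hy => (hVO y hy.1 hy.2).1)
    (le_inf inf_le_left (inf_le_right.trans htU))

end Groth.Agent.VarPicOne
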