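import Groth.Agent.VarPicOne.Poles
import Groth.Agent.VarPicOne.Main
import Groth.Agent.Lib.AVAmple
import Groth.Agent.InvX.GenEpi

/-!
# Globally generated invertible modules with prescribed generating locus
-/

set_option backward.isDefEq.respectTransparency false
set_option backward.isDefEq.respectTransparency.types false

universe u

open CategoryTheory AlgebraicGeometry TopologicalSpace Opposite

noncomputable section

namespace Groth.Agent.VarPicOne

open Groth.Agent.AModX Groth.Agent.InvX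

variable {X : Scheme.{u}} {U : X.Opens}

theorem exists_gg_of_pole (a : Γ(X, U))
    (h : ∀ x : X, x ∉ U → ∃ (V : X.Opens) (t : Γ(X, V)), x ∈ V ∧ (∀ y ∈ V, y ∉ U → y = x) ∧
      x ∉ X.basicOpen t ∧ resR (inf_le_left : V ⊓ U ≤ V) t * resR (inf_le_right : V ⊓ U ≤ U) a = 1) :
    ∃ (L : X.Modules) (s : Coh.structureModule X ⟶ L), PicF.IsInvertible L ∧
      Curv2.IsGloballyGenerated L ∧ CohB1.genLocus L s = U := by
  classical
  choose V t hxV hVU hxt hone using fun x : {x : X // x ∉ U} => h x.1 x.2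
  let O : Option {x : X // x ∉ U} → X.Opens := fun o => o.elim U V
  let aU : Γ(U.toScheme, ⊤) := resR (X := X) U.ι_image_top.le a
  let e : ∀ o, Γ(Coh.structureModule U.toScheme, U.ι ⁻¹ᵁ O o) := fun o => match o with
    | none => (1 : Γ(U.toScheme, U.ι ⁻¹ᵁ U))
    | some x => resR (X := U.toScheme) (le_top : U.ι ⁻¹ᵁ V x ≤ ⊤) aU
  have hWle : ∀ x, U.ι ''ᵁ (U.ι ⁻¹ᵁ V x) ≤ V x ⊓ U := fun x =>
    le_inf (U.ι.image_preimage_le _) (U.ι_image_le _)
  have hinv : ∀ x, resR (X := X) (U.ι.image_preimage_le (V x)) (t x) *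
      resR (X := X) ((U.ι.image_mono (le_top : U.ι ⁻¹ᵁ V x ≤ ⊤)).trans U.ι_image_top.le) a = 1 := fun x => by
    have h1 := congrArg (resR (X := X) (hWle x)) (hone x)
    rw [map_mul, map_one, resR_resR, resR_resR] at h1
    exact h1
  have hea : ∀ x, e (some x) =
      (show Γ(U.toScheme, U.ι ⁻¹ᵁ V x) from
        resR (X := X) ((U.ι.image_mono (le_top : U.ι ⁻¹ᵁ V x ≤ ⊤)).trans U.ι_image_top.le) a) := fun x => by
    show resR (X := X) (U.ι.image_mono (le_top : U.ι ⁻¹ᵁ V x ≤ ⊤)) (resR (X := X) U.ι_image_top.le a) = _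
    rw [resR_resR]
  have he : ∀ o, IsFrame (e o) := fun o => match o with
    | none => isFrame_one U.toScheme isUnit_one
    | some x => isFrame_one U.toScheme (g := resR (X := U.toScheme) (le_top : U.ι ⁻¹ᵁ V x ≤ ⊤) aU) <| by
      have h2 := hea x
      change resR (X := U.toScheme) _ aU = _ at h2
      rw [h2]
      exact IsUnit.of_mul_eq_one_right _ (hinv x)
  have hsep : ∀ o o', o ≠ o' → O o ⊓ O o' ≤ U := by
    rintro (_ | x) (_ | x') hne y ⟨hy, hy'⟩
    · exact hy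
    · exact hy
    · exact hy'
    · by_contra hyU
      exact hne (congrArg some (Subtype.ext ((hVU x y hy hyU).symm.trans (hVU x' y hy' hyU))))
  have hcov : ∀ y : X, ∃ o, y ∈ O o := fun y => by
    by_cases hy : y ∈ U
    · exact ⟨none, hy⟩
    · exact ⟨some ⟨y, hy⟩, hxV _⟩
  obtain ⟨L, f, hL, hf, -, hs⟩ := exists_extend e he hsep hcov
  let c₁ : ∀ o, Γ(X, O o) := fun o => match o with
    | none => (1 : Γ(X, U))
    | some x => t x
  let c₂ : ∀ o, Γ(X, O o) := fun o => match o with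
    | none => a
    | some x => (1 : Γ(X, V x))
  obtain ⟨s, hsc⟩ := hs c₁ (1 : Γ(U.toScheme, ⊤)) (fun o => by
    refine (map_one (resR (X := U.toScheme) (le_top : U.ι ⁻¹ᵁ O o ≤ ⊤))).trans ?_
    rcases o with _ | x
    · show (1 : Γ(U.toScheme, U.ι ⁻¹ᵁ U)) =
        (show Γ(U.toScheme, U.ι ⁻¹ᵁ U) from resR (X := X) (U.ι.image_preimage_le U) (1 : Γ(X, U))) * 1
      rw [mul_one]
      exact (map_one (resR (X := X) (U.ι.image_preimage_le U))).symm
    · rw [hea x]
      exact (hinv x).symm)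
  obtain ⟨s', hsc'⟩ := hs c₂ aU (fun o => by
    rcases o with _ | x
    · show resR (X := U.toScheme) (le_top : U.ι ⁻¹ᵁ U ≤ ⊤) aU =
        (show Γ(U.toScheme, U.ι ⁻¹ᵁ U) from resR (X := X) (U.ι.image_preimage_le U) a) * 1
      rw [mul_one]
      show resR (X := X) (U.ι.image_mono (le_top : U.ι ⁻¹ᵁ U ≤ ⊤)) (resR (X := X) U.ι_image_top.le a) = _
      rw [resR_resR]
    · show resR (X := U.toScheme) (le_top : U.ι ⁻¹ᵁ V x ≤ ⊤) aU =
        (show Γ(U.toScheme, U.ι ⁻¹ᵁ V x) from resR (X := X) (U.ι.image_preimage_le (V x)) (1 : Γ(X, V x))) *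
          resR (X := U.toScheme) (le_top : U.ι ⁻¹ᵁ V x ≤ ⊤) aU
      rw [show (show Γ(U.toScheme, U.ι ⁻¹ᵁ V x) from
        resR (X := X) (U.ι.image_preimage_le (V x)) (1 : Γ(X, V x))) = 1 from map_one _, one_mul])
  have hloc : ∀ o, CohB1.genLocus L s ⊓ O o = X.basicOpen (c₁ o) :=
    fun o => genLocus_inf s (hf o) (hsc o)
  have hloc' : ∀ o, CohB1.genLocus L s' ⊓ O o = X.basicOpen (c₂ o) :=
    fun o => genLocus_inf s' (hf o) (hsc' o)
  have htU : ∀ x, X.basicOpen (t x) = V x ⊓ U := fun x => by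
    refine le_antisymm (le_inf (X.basicOpen_le _) fun y hy => ?_) fun y hy => ?_
    · by_contra hyU
      exact hxt x (hVU x y (X.basicOpen_le _ hy) hyU ▸ hy)
    · have h1 : IsUnit (resR (inf_le_left : V x ⊓ U ≤ V x) (t x)) := IsUnit.of_mul_eq_one _ (hone x)
      have h2 : y ∈ X.basicOpen (resR (inf_le_left : V x ⊓ U ≤ V x) (t x)) := by
        rw [X.basicOpen_of_isUnit h1]; exact hy
      rw [show resR (inf_le_left : V x ⊓ U ≤ V x) (t x) = X.presheaf.map (homOfLE inf_le_left).op (t x)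
        from rfl, Scheme.basicOpen_res] at h2
      exact h2.2
  have hU : CohB1.genLocus L s = U := by
    ext y
    obtain ⟨o, ho⟩ := hcov y
    have h1 : y ∈ CohB1.genLocus L s ↔ y ∈ X.basicOpen (c₁ o) := by
      rw [← hloc o]; exact ⟨fun h => ⟨h, ho⟩, fun h => h.1⟩
    show y ∈ CohB1.genLocus L s ↔ y ∈ U
    rw [h1]
    rcases o with _ | x
    · show y ∈ X.basicOpen (1 : Γ(X, U)) ↔ _
      rw [Scheme.basicOpen_of_isUnit _ isUnit_one]
    · show y ∈ X.basicOpen (t x) ↔ _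
      rw [htU x]
      exact ⟨fun h => h.2, fun h => ⟨ho, h⟩⟩
  refine ⟨L, s, hL, InvX.isGloballyGenerated_of_generated (ι := ULift.{u} Bool)
    (s := fun b => bif b.down then one s else one s') (AVAmple.generatedBy_of_locus _ fun y => ?_), hU⟩
  have key : ∀ σ : Coh.structureModule X ⟶ L, y ∈ CohB1.genLocus L σ → y ∈ H23.TrivBasic.locus (one σ) :=
    fun σ hσ => by
      obtain ⟨W, hyW, hW⟩ := InvX.mem_genLocus hσ
      exact H23.TrivBasic.mem_locus_iff.2 ⟨W, hyW, hW⟩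
  by_cases hy : y ∈ U
  · exact ⟨⟨true⟩, key s (hU.symm ▸ hy)⟩
  · refine ⟨⟨false⟩, key s' ?_⟩
    have h2 : y ∈ CohB1.genLocus L s' ⊓ O (some ⟨y, hy⟩) := by
      rw [hloc' (some ⟨y, hy⟩)]
      show y ∈ X.basicOpen (1 : Γ(X, V ⟨y, hy⟩))
      rw [Scheme.basicOpen_of_isUnit _ isUnit_one]
      exact hxV _
    exact h2.1

end Groth.Agent.VarPicOne
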