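import Groth.Agent.IntTh85.LineGlue
import Groth.Agent.InvUfdLib.Extend
import Groth.Agent.Eg2Twist.Frames
import Groth.Agent.InvX.GenLocus
import Groth.Agent.QCoh.Devissage

/-!
# Extension of an invertible module from an open across a family of charts
-/

set_option backward.isDefEq.respectTransparency false
set_option backward.isDefEq.respectTransparency.types false

universe u

open CategoryTheory AlgebraicGeometry TopologicalSpace Opposite

noncomputable section

namespace Groth.Agent.VarPicOne

open Groth.Agent.AModX Groth.Agent.InvX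

variable {X : Scheme.{u}} {U : X.Opens}

lemma im_pre_le {W : X.Opens} (h : W ≤ U) : W ≤ U.ι ''ᵁ (U.ι ⁻¹ᵁ W) := by
  rw [Scheme.Hom.image_preimage_eq_opensRange_inf, Scheme.Opens.opensRange_ι]
  exact le_inf h le_rfl

/-- A function on the open subscheme as a function on `X`. -/
def toX {W : X.Opens} (h : W ≤ U) : Γ(U.toScheme, U.ι ⁻¹ᵁ W) →+* Γ(X, W) :=
  resR (X := X) (im_pre_le h)

variable {N : U.toScheme.Modules} {ι : Type u} {O : ι → X.Opens}
  (e : ∀ a, Γ(N, U.ι ⁻¹ᵁ O a)) (he : ∀ a, IsFrame (e a))
  (hsep : ∀ a b, a ≠ b → O a ⊓ O b ≤ U)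

open Classical in
/-- The transition functions. -/
def trans (a b : ι) (W : X.Opens) (ha : W ≤ O a) (hb : W ≤ O b) : Γ(X, W) :=
  if h : a = b then 1 else
    toX ((le_inf ha hb).trans (hsep a b h))
      (((he b).exists_coord (U.ι.preimage_mono hb) (res N (U.ι.preimage_mono ha) (e a))).choose)

theorem trans_eq {a b : ι} {W : X.Opens} (ha : W ≤ O a) (hb : W ≤ O b) (hW : W ≤ U)
    {g : Γ(U.toScheme, U.ι ⁻¹ᵁ W)}
    (hg : res N (U.ι.preimage_mono ha) (e a) = g • res N (U.ι.preimage_mono hb) (e b)) :
    trans e he hsep a b W ha hb = toX hW g := by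
  rw [trans]
  split
  · next h =>
    subst h
    rw [show g = 1 from (he a).coord_unique (U.ι.preimage_mono hb)
      (hg.symm.trans (one_smul _ _).symm), map_one]
  · have h1 := ((he b).exists_coord (U.ι.preimage_mono hb) (res N (U.ι.preimage_mono ha) (e a))).choose_spec
    exact congrArg _ ((he b).coord_unique _ (h1.symm.trans hg))

theorem trans_self (a : ι) (W : X.Opens) (ha hb : W ≤ O a) : trans e he hsep a a W ha hb = 1 := by
  rw [trans, dif_pos rfl]

theorem trans_res (a b : ι) (W W' : X.Opens) (ha : W ≤ O a) (hb : W ≤ O b) (h : W' ≤ W) :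
    resR h (trans e he hsep a b W ha hb) = trans e he hsep a b W' (h.trans ha) (h.trans hb) := by
  by_cases hab : a = b
  · subst hab
    rw [trans_self, trans_self, map_one]
  have hW : W ≤ U := (le_inf ha hb).trans (hsep a b hab)
  obtain ⟨g, hg⟩ := (he b).exists_coord (U.ι.preimage_mono hb) (res N (U.ι.preimage_mono ha) (e a))
  have hg' := congrArg (res N (U.ι.preimage_mono h)) hg
  rw [res_res, res_smul, res_res] at hg'
  rw [trans_eq e he hsep ha hb hW hg, trans_eq e he hsep (h.trans ha) (h.trans hb) (h.trans hW) hg']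
  show resR h (resR (im_pre_le hW) g) =
    resR (im_pre_le (h.trans hW)) (resR (U.ι.image_mono (U.ι.preimage_mono h)) g)
  rw [resR_resR, resR_resR]

theorem trans_mul (a b c : ι) (W : X.Opens) (ha : W ≤ O a) (hb : W ≤ O b) (hc : W ≤ O c) :
    trans e he hsep a b W ha hb * trans e he hsep b c W hb hc = trans e he hsep a c W ha hc := by
  by_cases hab : a = b
  · subst hab
    rw [trans_self, one_mul]
  by_cases hbc : b = c
  · subst hbc
    rw [trans_self, mul_one]
  have hW : W ≤ U := (le_inf ha hb).trans (hsep a b hab)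
  obtain ⟨g, hg⟩ := (he b).exists_coord (U.ι.preimage_mono hb) (res N (U.ι.preimage_mono ha) (e a))
  obtain ⟨g', hg'⟩ := (he c).exists_coord (U.ι.preimage_mono hc) (res N (U.ι.preimage_mono hb) (e b))
  have h3 : res N (U.ι.preimage_mono ha) (e a) = (g * g') • res N (U.ι.preimage_mono hc) (e c) := by
    rw [hg, hg', mul_smul]
  rw [trans_eq e he hsep ha hb hW hg, trans_eq e he hsep hb hc hW hg',
    trans_eq e he hsep ha hc hW h3, map_mul]

theorem trans_image {a b : ι} {V : U.toScheme.Opens} (ha : V ≤ U.ι ⁻¹ᵁ O a) (hb : V ≤ U.ι ⁻¹ᵁ O b)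
    {g : Γ(U.toScheme, V)} (hg : res N ha (e a) = g • res N hb (e b)) :
    trans e he hsep a b (U.ι ''ᵁ V) ((U.ι.image_mono ha).trans (U.ι.image_preimage_le _))
      ((U.ι.image_mono hb).trans (U.ι.image_preimage_le _)) = g := by
  have hV : U.ι ⁻¹ᵁ (U.ι ''ᵁ V) ≤ V := (U.ι.preimage_image_eq V).le
  have hg' := congrArg (res N hV) hg
  rw [res_res, res_smul, res_res] at hg'
  rw [trans_eq e he hsep _ _ (U.ι_image_le V) hg']
  show resR (im_pre_le (U.ι_image_le V)) (resR (U.ι.image_mono hV) g) = g
  rw [resR_resR, resR_self]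

include he hsep in
/-- Gluing `N` with trivial modules on the charts. -/
theorem exists_extend (hcov : ∀ x : X, ∃ a, x ∈ O a) :
    ∃ (L : X.Modules) (f : ∀ a, Γ(L, O a)), PicF.IsInvertible L ∧ (∀ a, IsFrame (f a)) ∧
      Nonempty (L.restrict U.ι ≅ N) ∧
      ∀ (c : ∀ a, Γ(X, O a)) (m : Γ(N, ⊤)),
        (∀ a, res N (le_top : U.ι ⁻¹ᵁ O a ≤ ⊤) m =
          (show Γ(U.toScheme, U.ι ⁻¹ᵁ O a) from resR (U.ι.image_preimage_le (O a)) (c a)) • e a) →
        ∃ s : Coh.structureModule X ⟶ L, ∀ a,
          res L (le_top : O a ≤ ⊤) (one s) = c a • f a := by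
  obtain ⟨L, f, hL, hf, hff⟩ := IntTh85.LineGlue.exists_line (O := O) hcov
    (trans e he hsep)
    (fun a b W ha hb => IsUnit.of_mul_eq_one (trans e he hsep b a W hb ha)
      ((trans_mul e he hsep a b a W ha hb ha).trans (trans_self e he hsep a W ha ha)))
    (trans_res e he hsep) (trans_mul e he hsep)
  refine ⟨L, f, hL, hf, ?_, fun c m hm => ?_⟩
  · refine Eg2Twist.nonempty_iso_of_frames (fun a => U.ι ⁻¹ᵁ O a) (fun x => hcov (U.ι x))
      (fun a => (show Γ(L.restrict U.ι, U.ι ⁻¹ᵁ O a) from res L (U.ι.image_preimage_le (O a)) (f a)))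
      e (fun a => InvUfdLib.isFrame_restrict U.ι ((hf a).res _)) he fun a b W ha hb g hg => ?_
    obtain ⟨g', hg'⟩ := (he a).exists_coord ha (res N hb (e b))
    have ha' : U.ι ''ᵁ W ≤ O a := (U.ι.image_mono ha).trans (U.ι.image_preimage_le _)
    have hb' : U.ι ''ᵁ W ≤ O b := (U.ι.image_mono hb).trans (U.ι.image_preimage_le _)
    have h1 : res L hb' (f b) = (show Γ(X, U.ι ''ᵁ W) from g') • res L ha' (f a) := by
      rw [hff b a _ hb' ha', trans_image e he hsep hb ha hg']
    have h2 : res L hb' (f b) = (show Γ(X, U.ι ''ᵁ W) from g) • res L ha' (f a) := by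
      have h := hg.trans (H23.Frame.restrict_smul U W g _)
      change res L (U.ι.image_mono hb) (res L _ (f b)) =
        (show Γ(X, U.ι ''ᵁ W) from g) • res L (U.ι.image_mono ha) (res L _ (f a)) at h
      rwa [res_res, res_res] at h
    rw [show g = g' from (hf a).coord_unique ha' (h2.symm.trans h1)]
    exact hg'
  · let one' : ∀ a, Γ(Coh.structureModule X, O a) := fun a => (1 : Γ(X, O a))
    have h1 : ∀ a, IsFrame (one' a) := fun a V hV => by
      have hmul : (fun r : Γ(X, V) => r • res (Coh.structureModule X) hV (one' a)) =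
          (fun r => show Γ(Coh.structureModule X, V) from r) := by
        funext r
        show r * resR hV (1 : Γ(X, O a)) = r
        rw [map_one, mul_one]
      rw [hmul]
      exact Function.bijective_id
    have hc : ∀ (a b : ι) (W : X.Opens) (ha : W ≤ O a) (hb : W ≤ O b) (g : Γ(X, W)),
        res (Coh.structureModule X) hb (one' b) = g • res (Coh.structureModule X) ha (one' a) →
          res L hb (c b • f b) = g • res L ha (c a • f a) := by
      intro a b W ha hb g hg
      have hg1 : g = 1 := by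
        change resR hb (1 : Γ(X, O b)) = g * resR ha (1 : Γ(X, O a)) at hg
        rw [map_one, map_one, mul_one] at hg
        exact hg.symm
      rw [hg1, one_smul, res_smul, res_smul, hff a b W ha hb, ← mul_smul]
      congr 1
      by_cases hab : a = b
      · subst hab
        rw [trans_self, mul_one]
      have hW : W ≤ U := (le_inf ha hb).trans (hsep a b hab)
      obtain ⟨t, ht⟩ := (he b).exists_coord (U.ι.preimage_mono hb) (res N (U.ι.preimage_mono ha) (e a))
      have h2 := congrArg (res N (U.ι.preimage_mono ha)) (hm a)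
      have h3 := congrArg (res N (U.ι.preimage_mono hb)) (hm b)
      rw [res_res, res_smul, ht, ← mul_smul] at h2
      rw [res_res, res_smul] at h3
      have h4 := congrArg (toX hW) ((he b).coord_unique _ (h3.symm.trans h2))
      rw [map_mul, ← trans_eq e he hsep ha hb hW ht] at h4
      have h5 : ∀ (d : ι) (hd : W ≤ O d), toX hW (resR (X := U.toScheme) (U.ι.preimage_mono hd)
          (show Γ(U.toScheme, U.ι ⁻¹ᵁ O d) from resR (U.ι.image_preimage_le (O d)) (c d))) =
          resR hd (c d) := fun d hd => by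
        show resR (im_pre_le hW) (resR (U.ι.image_mono (U.ι.preimage_mono hd))
          (resR (U.ι.image_preimage_le (O d)) (c d))) = _
        rw [resR_resR, resR_resR]
      rw [h5 b hb, h5 a ha] at h4
      exact h4
    refine ⟨ofFrames (U := O) (e := one') (n := fun a => c a • f a) hcov h1 hc, fun a => ?_⟩
    rw [InvX.one, ← AModX.app_res]
    refine Eq.trans (congrArg _ ?_) (ofFrames_app hcov h1 hc a)
    exact map_one (resR (le_top : O a ≤ ⊤))

end Groth.Agent.VarPicOne
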