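import Groth.Agent.VarPicOne.Extend
import Groth.Agent.Para81.FrameGlue

/-!
# Invertible modules with prescribed pullbacks from liftable transition functions
-/

set_option backward.isDefEq.respectTransparency false
set_option backward.isDefEq.respectTransparency.types false

universe u

open CategoryTheory AlgebraicGeometry TopologicalSpace Opposite

noncomputable section

namespace Groth.Agent.VarPicOne

open Groth.Agent.AModX Groth.Agent.InvX

variable {Y : Scheme.{u}} {κ : Type*} {Z : κ → Scheme.{u}} (f : ∀ i, Z i ⟶ Y) (L : ∀ i, (Z i).Modules)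
  {A : Type u} {O : A → Y.Opens}

lemma app_resR {X : Scheme.{u}} (g : X ⟶ Y) {V V' : Y.Opens} (h : V' ≤ V) (r : Γ(Y, V)) :
    g.app V' (resR h r) = resR (g.preimage_mono h) (g.app V r) :=
  ConcreteCategory.congr_hom (g.naturality (homOfLE h).op) r

/-- Transition functions lifting those of frames of the `L i` define a module pulling back to them. -/
theorem exists_of_cocycle (hcov : ∀ y : Y, ∃ a, y ∈ O a)
    (ℓ : ∀ a i, Γ(L i, f i ⁻¹ᵁ O a)) (hℓ : ∀ a i, IsFrame (ℓ a i))
    (u : ∀ (a b : A) (W : Y.Opens), W ≤ O a → W ≤ O b → Γ(Y, W))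
    (hres : ∀ a b (W W' : Y.Opens) (ha : W ≤ O a) (hb : W ≤ O b) (h : W' ≤ W),
      resR h (u a b W ha hb) = u a b W' (h.trans ha) (h.trans hb))
    (hcoc : ∀ a b c W ha hb hc, u a b W ha hb * u b c W hb hc = u a c W ha hc)
    (hone : ∀ a W ha ha', u a a W ha ha' = 1)
    (hu : ∀ a b (W : Y.Opens) (ha : W ≤ O a) (hb : W ≤ O b) i,
      res (L i) ((f i).preimage_mono ha) (ℓ a i) =
        (f i).app W (u a b W ha hb) • res (L i) ((f i).preimage_mono hb) (ℓ b i)) :
    ∃ N : Y.Modules, PicF.IsInvertible N ∧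
      ∀ i, Nonempty ((Scheme.Modules.pullback (f i)).obj N ≅ L i) := by
  obtain ⟨N, e, hN, he, hee⟩ := IntTh85.LineGlue.exists_line (O := O) hcov u
    (fun a b W ha hb => IsUnit.of_mul_eq_one (u b a W hb ha)
      ((hcoc a b a W ha hb ha).trans (hone a W ha ha))) hres hcoc
  refine ⟨N, hN, fun i => ?_⟩
  have : ∀ z : Z i, ∃ a : ULift.{u} A, z ∈ f i ⁻¹ᵁ O a.down := fun z =>
    (hcov ((f i) z)).elim fun a ha => ⟨⟨a⟩, ha⟩
  refine Eg2Twist.nonempty_iso_of_frames (ι := ULift.{u} A) (fun a => f i ⁻¹ᵁ O a.down) this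
    (fun a => pullElt (f i) (e a.down)) (fun a => ℓ a.down i)
    (fun a => isFrame_pullElt (f i) (he a.down)) (fun a => hℓ a.down i) fun a b W ha hb g hg => ?_
  let P : Y.Opens := O a.down ⊓ O b.down
  have hP : W ≤ f i ⁻¹ᵁ P := fun z hz => ⟨ha hz, hb hz⟩
  have h1 := congrArg (pullElt (f i)) (hee b.down a.down P inf_le_right inf_le_left)
  rw [Para81.pullElt_smul, Para81.pullElt_res, Para81.pullElt_res] at h1
  have h2 := congrArg (res ((Scheme.Modules.pullback (f i)).obj N) hP) h1
  rw [res_res, res_smul, res_res] at h2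
  have h3 := congrArg (res (L i) hP) (hu b.down a.down P inf_le_right inf_le_left i)
  rw [res_res, res_smul, res_res] at h3
  rw [(isFrame_pullElt (f i) (he a.down)).coord_unique ha (hg.symm.trans h2)]
  exact h3

/-- If functions lift uniquely on the overlaps, the pullbacks can be prescribed. -/
theorem exists_of_bijective (hcov : ∀ y : Y, ∃ a, y ∈ O a)
    (ℓ : ∀ a i, Γ(L i, f i ⁻¹ᵁ O a)) (hℓ : ∀ a i, IsFrame (ℓ a i))
    (hbij : ∀ a b, a ≠ b → ∀ W : Y.Opens, W ≤ O a → W ≤ O b →
      Function.Bijective fun (r : Γ(Y, W)) i => (f i).app W r) :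
    ∃ N : Y.Modules, PicF.IsInvertible N ∧
      ∀ i, Nonempty ((Scheme.Modules.pullback (f i)).obj N ≅ L i) := by
  classical
  have hc : ∀ a b (W : Y.Opens) (ha : W ≤ O a) (hb : W ≤ O b), a ≠ b →
      ∃ r : Γ(Y, W), ∀ i, res (L i) ((f i).preimage_mono ha) (ℓ a i) =
        (f i).app W r • res (L i) ((f i).preimage_mono hb) (ℓ b i) := by
    intro a b W ha hb hab
    have h := fun i => (hℓ b i).exists_coord ((f i).preimage_mono hb)
      (res (L i) ((f i).preimage_mono ha) (ℓ a i))
    choose g hg using h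
    obtain ⟨r, hr⟩ := (hbij a b hab W ha hb).2 g
    exact ⟨r, fun i => by rw [hg i, ← congrFun hr i]⟩
  let u : ∀ (a b : A) (W : Y.Opens), W ≤ O a → W ≤ O b → Γ(Y, W) := fun a b W ha hb =>
    if h : a = b then 1 else (hc a b W ha hb h).choose
  have hu : ∀ a b (W : Y.Opens) (ha : W ≤ O a) (hb : W ≤ O b) i,
      res (L i) ((f i).preimage_mono ha) (ℓ a i) =
        (f i).app W (u a b W ha hb) • res (L i) ((f i).preimage_mono hb) (ℓ b i) := by
    intro a b W ha hb i
    by_cases h : a = b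
    · subst h
      simp only [u, dif_pos]
      rw [map_one, one_smul]
    · simp only [u, dif_neg h]
      exact (hc a b W ha hb h).choose_spec i
  have huniq : ∀ a b, a ≠ b → ∀ (W : Y.Opens) (ha : W ≤ O a) (hb : W ≤ O b) (r : Γ(Y, W)),
      (∀ i, res (L i) ((f i).preimage_mono ha) (ℓ a i) =
        (f i).app W r • res (L i) ((f i).preimage_mono hb) (ℓ b i)) → r = u a b W ha hb :=
    fun a b hab W ha hb r hr => (hbij a b hab W ha hb).1
      (funext fun i => (hℓ b i).coord_unique _ ((hr i).symm.trans (hu a b W ha hb i)))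
  have hone : ∀ a W ha ha', u a a W ha ha' = 1 := fun a W ha ha' => dif_pos rfl
  refine exists_of_cocycle f L hcov ℓ hℓ u (fun a b W W' ha hb h => ?_)
    (fun a b c W ha hb hc' => ?_) hone hu
  · by_cases hab : a = b
    · subst hab
      simp only [hone, map_one]
    · refine huniq a b hab W' (h.trans ha) (h.trans hb) _ fun i => ?_
      have := congrArg (res (L i) ((f i).preimage_mono h)) (hu a b W ha hb i)
      rw [res_res, res_smul, res_res] at this
      rw [app_resR]
      exact this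
  · by_cases hab : a = b
    · subst hab
      simp only [hone, one_mul]
    by_cases hbc : b = c
    · subst hbc
      simp only [hone, mul_one]
    by_cases hac : a = c
    · subst hac
      rw [hone a W ha hc']
      refine (hbij a b hab W ha hb).1 (funext fun i => ?_)
      refine (hℓ a i).coord_unique ((f i).preimage_mono ha) ?_
      show (f i).app W _ • _ = (f i).app W _ • _
      rw [map_mul, map_one, one_smul, mul_smul, ← hu b a W hb hc' i, ← hu a b W ha hb i]
    · refine huniq a c hac W ha hc' _ fun i => ?_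
      rw [map_mul, mul_smul, ← hu b c W hb hc' i, ← hu a b W ha hb i]

/-- Transition functions through a single core open. -/
theorem exists_of_core (W₀ : Y.Opens) (ℓ₀ : ∀ i, Γ(L i, f i ⁻¹ᵁ W₀)) (hℓ₀ : ∀ i, IsFrame (ℓ₀ i))
    (hcov : ∀ y : Y, y ∈ W₀ ∨ ∃ a, y ∈ O a) (hsep : ∀ a b, a ≠ b → O a ⊓ O b ≤ W₀)
    (ℓ : ∀ a i, Γ(L i, f i ⁻¹ᵁ O a)) (hℓ : ∀ a i, IsFrame (ℓ a i))
    (c : ∀ a, Γ(Y, O a ⊓ W₀)) (hc : ∀ a, IsUnit (c a))
    (heq : ∀ a i, res (L i) ((f i).preimage_mono (inf_le_left : O a ⊓ W₀ ≤ O a)) (ℓ a i) =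
      (f i).app (O a ⊓ W₀) (c a) •
        res (L i) ((f i).preimage_mono (inf_le_right : O a ⊓ W₀ ≤ W₀)) (ℓ₀ i)) :
    ∃ N : Y.Modules, PicF.IsInvertible N ∧
      ∀ i, Nonempty ((Scheme.Modules.pullback (f i)).obj N ≅ L i) := by
  classical
  let O' : Option A → Y.Opens := fun a => a.elim W₀ O
  let ℓ' : ∀ a i, Γ(L i, f i ⁻¹ᵁ O' a) := fun a => match a with
    | none => ℓ₀
    | some a => ℓ a
  let c' : ∀ a : Option A, Γ(Y, O' a ⊓ W₀) := fun a => match a with
    | none => 1
    | some a => c a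
  have hc' : ∀ a, IsUnit (c' a) := fun a => match a with
    | none => isUnit_one
    | some a => hc a
  have heq' : ∀ a i (W : Y.Opens) (ha : W ≤ O' a) (h0 : W ≤ W₀),
      res (L i) ((f i).preimage_mono ha) (ℓ' a i) =
        (f i).app W (resR (le_inf ha h0) (c' a)) • res (L i) ((f i).preimage_mono h0) (ℓ₀ i) := by
    intro a i W ha h0
    rcases a with _ | a
    · show res (L i) _ (ℓ₀ i) = (f i).app W (resR _ (1 : Γ(Y, W₀ ⊓ W₀))) • _
      rw [map_one, map_one, one_smul]
    · have := congrArg (res (L i) ((f i).preimage_mono (le_inf (show W ≤ O a from ha) h0))) (heq a i)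
      rw [res_res, res_smul, res_res] at this
      rw [app_resR]
      exact this
  have hsep' : ∀ a b, a ≠ b → O' a ⊓ O' b ≤ W₀ := by
    rintro (_ | a) (_ | b) hab
    · exact absurd rfl hab
    · exact inf_le_left
    · exact inf_le_right
    · exact hsep a b fun h => hab (congrArg some h)
  let u : ∀ (a b : Option A) (W : Y.Opens), W ≤ O' a → W ≤ O' b → Γ(Y, W) := fun a b W ha hb =>
    if h : a = b then 1 else
      resR (le_inf ha ((le_inf ha hb).trans (hsep' a b h))) (c' a) *
        resR (le_inf hb ((le_inf ha hb).trans (hsep' a b h))) (((hc' b).unit⁻¹ : Γ(Y, _)ˣ) : Γ(Y, _))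
  have hone : ∀ a W ha ha', u a a W ha ha' = 1 := fun a W ha ha' => dif_pos rfl
  have hu' : ∀ a b (W : Y.Opens) (ha : W ≤ O' a) (hb : W ≤ O' b) (h0 : W ≤ W₀),
      u a b W ha hb = resR (le_inf ha h0) (c' a) *
        resR (le_inf hb h0) (((hc' b).unit⁻¹ : Γ(Y, _)ˣ) : Γ(Y, _)) := by
    intro a b W ha hb h0
    by_cases h : a = b
    · subst h
      rw [hone a W ha hb, ← map_mul, IsUnit.mul_val_inv, map_one]
    · exact dif_neg h
  refine exists_of_cocycle f L (O := O') (fun y => ?_) ℓ' (fun a i => ?_) u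
    (fun a b W W' ha hb h => ?_) (fun a b d W ha hb hd => ?_) hone (fun a b W ha hb i => ?_)
  · rcases hcov y with h | ⟨a, ha⟩
    · exact ⟨none, h⟩
    · exact ⟨some a, ha⟩
  · rcases a with _ | a
    · exact hℓ₀ i
    · exact hℓ a i
  · by_cases hab : a = b
    · subst hab
      simp only [hone, map_one]
    · have h0 := (le_inf ha hb).trans (hsep' a b hab)
      rw [hu' a b W ha hb h0, hu' a b W' (h.trans ha) (h.trans hb) (h.trans h0), map_mul, resR_resR, resR_resR]
  · by_cases hab : a = b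
    · subst hab
      simp only [hone, one_mul]
    by_cases hbd : b = d
    · subst hbd
      simp only [hone, mul_one]
    have h0 := (le_inf ha hb).trans (hsep' a b hab)
    rw [hu' a b W ha hb h0, hu' b d W hb hd h0, hu' a d W ha hd h0, mul_assoc,
      ← mul_assoc (resR (le_inf hb h0) (((hc' b).unit⁻¹ : Γ(Y, _)ˣ) : Γ(Y, O' b ⊓ W₀))), ← map_mul,
      IsUnit.val_inv_mul, map_one, one_mul]
  · by_cases hab : a = b
    · subst hab
      simp only [hone, map_one, one_smul]
    have h0 := (le_inf ha hb).trans (hsep' a b hab)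
    rw [hu' a b W ha hb h0, heq' a i W ha h0, heq' b i W hb h0, ← mul_smul, ← map_mul, mul_assoc,
      ← map_mul, IsUnit.val_inv_mul, map_one, mul_one]

end Groth.Agent.VarPicOne
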