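import Groth.Agent.VarPicOne.Gen
import Groth.Agent.S1640
import Groth.Agent.QCoh.Devissage
import Groth.Agent.AModX.Res
import Mathlib.AlgebraicGeometry.Morphisms.Separated
import Mathlib.RingTheory.Valuation.LocalSubring

/-!
# Functions on an affine open with poles at all missing points
-/

set_option backward.isDefEq.respectTransparency false
set_option backward.isDefEq.respectTransparency.types false
set_option linter.style.haveILetI false

universe u

open CategoryTheory AlgebraicGeometry TopologicalSpace Opposite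

noncomputable section

namespace Groth.Agent.VarPicOne

open Groth.Agent.AModX

variable {X : Scheme.{u}}

theorem basicOpen_eq_bot_of_genPts {V : X.Opens} (s : Γ(X, V))
    (h : ∀ η ∈ genPts X, η ∉ X.basicOpen s) : X.basicOpen s = ⊥ := by
  refine Opens.ext (Set.eq_empty_iff_forall_notMem.2 fun z hz => ?_)
  obtain ⟨η, hη, hηz⟩ := exists_genPt z
  exact h η hη (hηz.mem_open (X.basicOpen s).2 hz)

theorem eq_zero_of_genPts [IsReduced X] {V : X.Opens} (s : Γ(X, V))
    (h : ∀ η ∈ genPts X, η ∉ X.basicOpen s) : s = 0 :=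
  (basicOpen_eq_bot_iff s).1 (basicOpen_eq_bot_of_genPts s h)

theorem isField_stalk_genPt [IsReduced X] (hfin : (genPts X).Finite) {η : X} (hη : η ∈ genPts X) :
    IsField (X.presheaf.stalk η) := by
  refine ⟨⟨0, 1, zero_ne_one⟩, mul_comm, fun {z} hz => ?_⟩
  suffices hu : IsUnit z from ⟨_, hu.mul_val_inv⟩
  by_contra hnu
  obtain ⟨W, hηW, s, hs⟩ := X.presheaf.exists_germ_eq z
  subst hs
  let P : X.Opens := ⟨(⋃ ξ ∈ genPts X \ {η}, closure {ξ})ᶜ,
    ((hfin.subset Set.sdiff_subset).isClosed_biUnion fun _ _ => isClosed_closure).isOpen_compl⟩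
  have hηP : η ∈ P := fun h => by
    obtain ⟨ξ, hξ, hηξ⟩ := Set.mem_iUnion₂.1 h
    exact hξ.2 (hη ξ (specializes_iff_mem_closure.2 hηξ))
  have h0 : X.presheaf.map (homOfLE (inf_le_left : W ⊓ P ≤ W)).op s = 0 := by
    refine eq_zero_of_genPts _ fun ξ hξ hmem => ?_
    rw [Scheme.basicOpen_res] at hmem
    have hξη : ξ = η := by
      by_contra hne
      exact hmem.1.2 (Set.mem_iUnion₂.2 ⟨ξ, ⟨hξ, hne⟩, subset_closure rfl⟩)
    exact hnu ((Scheme.mem_basicOpen X s η hηW).1 (hξη ▸ hmem.2))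
  apply hz
  rw [← X.presheaf.germ_res_apply (homOfLE (inf_le_left : W ⊓ P ≤ W)) η ⟨hηW, hηP⟩ s, h0, map_zero]

theorem eq_zero_iff_notMem_basicOpen [IsReduced X] (hfin : (genPts X).Finite) {η : X}
    (hη : η ∈ genPts X) {V : X.Opens} (hV : η ∈ V) (s : Γ(X, V)) :
    X.presheaf.germ V η hV s = 0 ↔ η ∉ X.basicOpen s := by
  rw [Scheme.mem_basicOpen X s η hV]
  refine ⟨fun h => by rw [h]; exact not_isUnit_zero, fun h => by_contra fun hne => h ?_⟩
  obtain ⟨y, hy⟩ := (isField_stalk_genPt hfin hη).mul_inv_cancel hne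
  exact IsUnit.of_mul_eq_one y hy

/-- A function on an affine open separating one of finitely many points without specializations. -/
theorem exists_avoid {V : X.Opens} (hV : IsAffineOpen V) (F : Finset X) (hFV : ∀ y ∈ F, y ∈ V)
    (hF : ∀ y ∈ F, y ∈ genPts X) {η : X} (hη : η ∈ F) :
    ∃ c : Γ(X, V), η ∈ X.basicOpen c ∧ ∀ y ∈ F, y ≠ η → y ∉ X.basicOpen c := by
  classical
  have key : ∀ (y : X) (hy : y ∈ V) (t : Γ(X, V)),
      y ∈ X.basicOpen t ↔ t ∉ (hV.primeIdealOf ⟨y, hy⟩).asIdeal := by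
    intro y hy t
    rw [← QCoh.mem_basicOpen_fromSpec hV, hV.fromSpec_primeIdealOf]
  have h1 : ∀ y ∈ F.erase η, ∃ c : Γ(X, V), η ∈ X.basicOpen c ∧ y ∉ X.basicOpen c := by
    intro y hy
    obtain ⟨hne, hyF⟩ := Finset.mem_erase.1 hy
    by_contra hc
    push Not at hc
    have hle : (hV.primeIdealOf ⟨y, hFV y hyF⟩).asIdeal ≤ (hV.primeIdealOf ⟨η, hFV η hη⟩).asIdeal :=
      fun t ht => by_contra fun ht' =>
        (key y (hFV y hyF) t).1 (hc t ((key η (hFV η hη) t).2 ht')) ht
    have h := ((PrimeSpectrum.le_iff_specializes (hV.primeIdealOf ⟨y, hFV y hyF⟩)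
      (hV.primeIdealOf ⟨η, hFV η hη⟩)).1 hle).map hV.fromSpec.continuous
    rw [hV.fromSpec_primeIdealOf, hV.fromSpec_primeIdealOf] at h
    exact hne (hF η hη y h)
  choose! c hc1 hc2 using h1
  refine ⟨∏ y ∈ F.erase η, c y, ?_, fun y hy hne hmem => ?_⟩
  · rw [Scheme.mem_basicOpen X _ η (hFV η hη), map_prod]
    exact IsUnit.prod_iff.2 fun y hy => (Scheme.mem_basicOpen X _ η (hFV η hη)).1 (hc1 y hy)
  · rw [Scheme.mem_basicOpen X _ y (hFV y hy), map_prod] at hmem
    exact hc2 y (Finset.mem_erase.2 ⟨hne, hy⟩)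
      ((Scheme.mem_basicOpen X _ y (hFV y hy)).2
        (IsUnit.prod_iff.1 hmem y (Finset.mem_erase.2 ⟨hne, hy⟩)))

/-- High powers of an element of the maximal ideal absorb any fraction. -/
theorem exists_pow_mul_mem {K : Type u} [Field K] (B : Subring K) [IsNoetherianRing B] [IsLocalRing B]
    [IsFractionRing B K] (hd : Ring.KrullDimLE 1 B) (y : B) (hy : y ∈ IsLocalRing.maximalIdeal B) (w : K) :
    ∃ N, ∀ n ≥ N, ∃ d : B, d ∈ IsLocalRing.maximalIdeal B ∧ (y : K) ^ n * w = d := by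
  obtain ⟨b, d, hd0, hw⟩ := IsFractionRing.div_surjective (A := B) w
  have hd' : d ≠ 0 := nonZeroDivisors.ne_zero hd0
  have hrad : y ∈ (Ideal.span {d}).radical := by
    rw [Ideal.radical_eq_sInf, Ideal.mem_sInf]
    intro P hP
    have hPne : P ≠ ⊥ := fun h => hd' (by
      have := hP.1 (Ideal.mem_span_singleton_self d)
      rwa [h, Ideal.mem_bot] at this)
    have := (Ring.krullDimLE_one_iff_of_noZeroDivisors.1 hd) P hPne hP.2
    rwa [IsLocalRing.eq_maximalIdeal this]
  obtain ⟨M, hM⟩ := hrad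
  obtain ⟨e, he⟩ := Ideal.mem_span_singleton'.1 hM
  refine ⟨M + 1, fun n hn => ?_⟩
  obtain ⟨j, rfl⟩ := Nat.exists_eq_add_of_le hn
  refine ⟨y ^ (j + 1) * e * b, Ideal.mul_mem_right _ _ (Ideal.mul_mem_right _ _
    (Ideal.pow_mem_of_mem _ hy _ (Nat.succ_pos j))), ?_⟩
  have hdK : (d : K) ≠ 0 := fun h => hd' (Subtype.ext h)
  have he' : (e : K) * d = (y : K) ^ M := by exact_mod_cast congrArg Subtype.val he
  rw [← hw]
  show (y : K) ^ (M + 1 + j) * ((b : K) / d) = (y : K) ^ (j + 1) * e * b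
  rw [show M + 1 + j = M + (j + 1) by omega, pow_add, ← he']
  field_simp

section Generic

variable {η : X}

/-- A subring containing the functions on an affine neighbourhood has the stalk as fraction field. -/
theorem isFractionRing_of_germ (hK : IsField (X.presheaf.stalk η)) {V : X.Opens} (hV : IsAffineOpen V)
    (hηV : η ∈ V) (S : Subring (X.presheaf.stalk η)) (hS : (X.presheaf.germ V η hηV).hom.range ≤ S) :
    IsFractionRing S (X.presheaf.stalk η) := by
  letI : Field (X.presheaf.stalk η) := hK.toField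
  refine IsFractionRing.of_field S (X.presheaf.stalk η) fun z => ?_
  let _ := X.presheaf.algebra_section_stalk (⟨η, hηV⟩ : V)
  have := hV.isLocalization_stalk ⟨η, hηV⟩
  obtain ⟨⟨r, s⟩, hrs⟩ := IsLocalization.surj (hV.primeIdealOf ⟨η, hηV⟩).asIdeal.primeCompl z
  have hu : IsUnit (algebraMap Γ(X, V) (X.presheaf.stalk η) (s : Γ(X, V))) :=
    IsLocalization.map_units (X.presheaf.stalk η) s
  refine ⟨⟨_, hS ⟨r, rfl⟩⟩, ⟨_, hS ⟨(s : Γ(X, V)), rfl⟩⟩, ?_⟩
  symm
  rw [eq_comm, eq_div_iff (by exact hu.ne_zero)]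
  exact hrs

/-- The image in the field of a generic point of the local ring of a specialization. -/
abbrev locImg {x : X} (h : η ⤳ x) : Subring (X.presheaf.stalk η) :=
  (X.presheaf.stalkSpecializes h).hom.range

theorem isFractionRing_locImg (hK : IsField (X.presheaf.stalk η)) {x : X} (h : η ⤳ x) :
    IsFractionRing (locImg h) (X.presheaf.stalk η) := by
  obtain ⟨_, ⟨V, hV, rfl⟩, hxV, -⟩ :=
    X.isBasis_affineOpens.exists_subset_of_mem_open (Set.mem_univ x) isOpen_univ
  refine isFractionRing_of_germ hK hV (h.mem_open V.2 hxV) _ ?_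
  rintro _ ⟨r, rfl⟩
  exact ⟨X.presheaf.germ V x hxV r, by
    rw [← X.presheaf.germ_stalkSpecializes hxV h]; rfl⟩

theorem locImg_ne_field (hK : IsField (X.presheaf.stalk η)) {x : X} (h : η ⤳ x) (hne : η ≠ x) :
    ¬ IsField (locImg h) := by
  intro hf
  let φ := (X.presheaf.stalkSpecializes h).hom
  have hmax : (RingHom.ker φ.rangeRestrict).IsMaximal := by
    letI := hf.toField
    exact RingHom.ker_isMaximal_of_surjective φ.rangeRestrict φ.rangeRestrict_surjective
  have hker : (Spec.map (X.presheaf.stalkSpecializes h)) (IsLocalRing.closedPoint (X.presheaf.stalk η)) =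
      IsLocalRing.closedPoint (X.presheaf.stalk x) := by
    refine PrimeSpectrum.ext ?_
    show (IsLocalRing.maximalIdeal (X.presheaf.stalk η)).comap φ = IsLocalRing.maximalIdeal _
    rw [IsLocalRing.isField_iff_maximalIdeal_eq.1 hK, ← RingHom.ker_eq_comap_bot]
    rw [← φ.ker_rangeRestrict]
    exact IsLocalRing.eq_maximalIdeal hmax
  have h1 := congr($(Scheme.SpecMap_stalkSpecializes_fromSpecStalk h)
    (IsLocalRing.closedPoint (X.presheaf.stalk η)))
  rw [Scheme.fromSpecStalk_closedPoint, Scheme.Hom.comp_apply, hker,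
    Scheme.fromSpecStalk_closedPoint] at h1
  exact hne h1.symm

theorem isLocalRing_locImg {x : X} (h : η ⤳ x) : IsLocalRing (locImg h) :=
  IsLocalRing.of_surjective' _ (X.presheaf.stalkSpecializes h).hom.rangeRestrict_surjective

theorem isNoetherianRing_locImg {x : X} (h : η ⤳ x) [IsNoetherianRing (X.presheaf.stalk x)] :
    IsNoetherianRing (locImg h) :=
  isNoetherianRing_of_surjective (X.presheaf.stalk x) _ _
    (X.presheaf.stalkSpecializes h).hom.rangeRestrict_surjective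

theorem krullDimLE_locImg {x : X} (h : η ⤳ x) (hd : ringKrullDim (X.presheaf.stalk x) ≤ 1) :
    Ring.KrullDimLE 1 (locImg h) :=
  Ring.krullDimLE_iff.2 (by
    exact_mod_cast (ringKrullDim_le_of_surjective _
      (X.presheaf.stalkSpecializes h).hom.rangeRestrict_surjective).trans hd)

theorem ringKrullDim_locImg (hK : IsField (X.presheaf.stalk η)) {x : X} (h : η ⤳ x) (hne : η ≠ x)
    (hd : ringKrullDim (X.presheaf.stalk x) ≤ 1) : ringKrullDim (locImg h) = 1 := by
  have : IsDomain (X.presheaf.stalk η) := hK.isDomain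
  refine le_antisymm ((ringKrullDim_le_of_surjective _
    (X.presheaf.stalkSpecializes h).hom.rangeRestrict_surjective).trans hd) ?_
  by_contra hlt
  refine locImg_ne_field hK h hne ?_
  have h0 : ringKrullDim (locImg h) ≤ 0 := Order.le_of_lt_succ (lt_of_not_ge hlt)
  have : Ring.KrullDimLE 0 (locImg h) := Ring.krullDimLE_iff.2 (by exact_mod_cast h0)
  exact Ring.KrullDimLE.isField_of_isDomain

/-- The functions on an affine open and a local ring outside of it generate the field. -/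
theorem sup_eq_top [X.IsSeparated] (hK : IsField (X.presheaf.stalk η)) {U : X.Opens}
    (hU : IsAffineOpen U) (hηU : η ∈ U) {x : X} (hxU : x ∉ U) (h : η ⤳ x)
    (hd : ringKrullDim (X.presheaf.stalk x) ≤ 1) :
    (X.presheaf.germ U η hηU).hom.range ⊔ locImg h = ⊤ := by
  letI : Field (X.presheaf.stalk η) := hK.toField
  set S := (X.presheaf.germ U η hηU).hom.range ⊔ locImg h with hS
  have hB := isFractionRing_locImg hK h
  by_contra hne
  have hnf : ¬ IsField S := by
    intro hf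
    refine hne (eq_top_iff.2 fun z _ => ?_)
    obtain ⟨b, d, hd0, rfl⟩ := IsFractionRing.div_surjective (A := locImg h) z
    have hd1 : (d : X.presheaf.stalk η) ≠ 0 := fun h0 =>
      nonZeroDivisors.ne_zero hd0 (Subtype.ext h0)
    have hdS : (d : X.presheaf.stalk η) ∈ S := (le_sup_right : locImg h ≤ S) d.2
    obtain ⟨e, he⟩ := hf.mul_inv_cancel (show (⟨_, hdS⟩ : S) ≠ 0 from fun h0 => hd1 (congrArg Subtype.val h0))
    rw [div_eq_mul_inv]
    refine S.mul_mem ((le_sup_right : locImg h ≤ S) b.2) ?_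
    show (d : X.presheaf.stalk η)⁻¹ ∈ S
    rw [inv_eq_of_mul_eq_one_right (show (d : X.presheaf.stalk η) * e.1 = 1 from congrArg Subtype.val he)]
    exact e.2
  obtain ⟨I, hI0, hI⟩ := Ring.not_isField_iff_exists_ideal_bot_lt_and_lt_top.1 hnf
  obtain ⟨V, hSV, hIV⟩ := Ideal.image_subset_nonunits_valuationSubring I hI.ne
  obtain ⟨y, hyI, hy0⟩ := Submodule.exists_mem_ne_zero_of_ne_bot hI0.ne'
  have hAV : ∀ r : Γ(X, U), (X.presheaf.germ U η hηU).hom r ∈ V.toSubring :=
    fun r => hSV ((le_sup_left : (X.presheaf.germ U η hηU).hom.range ≤ S) ⟨r, rfl⟩)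
  have hBV : ∀ r : X.presheaf.stalk x, (X.presheaf.stalkSpecializes h).hom r ∈ V.toSubring :=
    fun r => hSV ((le_sup_right : locImg h ≤ S) ⟨r, rfl⟩)
  let fU : CommRingCat.of Γ(X, U) ⟶ CommRingCat.of V.toSubring :=
    CommRingCat.ofHom ((X.presheaf.germ U η hηU).hom.codRestrict V.toSubring hAV)
  let fx : X.presheaf.stalk x ⟶ CommRingCat.of V.toSubring :=
    CommRingCat.ofHom ((X.presheaf.stalkSpecializes h).hom.codRestrict V.toSubring hBV)
  let incl : CommRingCat.of V.toSubring ⟶ X.presheaf.stalk η := CommRingCat.ofHom V.toSubring.subtype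
  have hU' : fU ≫ incl = X.presheaf.germ U η hηU := rfl
  have hx' : fx ≫ incl = X.presheaf.stalkSpecializes h := rfl
  have : IsDominant (Spec.map incl) := ⟨(PrimeSpectrum.denseRange_comap_iff_ker_le_nilRadical _).2 (by
    rw [(RingHom.injective_iff_ker_eq_bot _).1 Subtype.val_injective]; exact bot_le)⟩
  have heq : Spec.map fU ≫ hU.fromSpec = Spec.map fx ≫ X.fromSpecStalk x := by
    refine ext_of_isDominant (Spec.map incl) ?_
    rw [← Spec.map_comp_assoc, ← Spec.map_comp_assoc, hU', hx',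
      Scheme.SpecMap_stalkSpecializes_fromSpecStalk, ← hU.fromSpecStalk_eq_fromSpecStalk hηU]
    rfl
  have : IsLocalRing V.toSubring := inferInstanceAs (IsLocalRing V)
  let q := IsLocalRing.closedPoint (CommRingCat.of V.toSubring)
  have hq : Spec.map fx q = IsLocalRing.closedPoint (X.presheaf.stalk x) := by
    let ψ : locImg h →+* V.toSubring := Subring.inclusion (by rintro _ ⟨r, rfl⟩; exact hBV r)
    have hψ : fx.hom = ψ.comp (X.presheaf.stalkSpecializes h).hom.rangeRestrict := rfl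
    have := isLocalRing_locImg h
    let P : Ideal (locImg h) := (IsLocalRing.maximalIdeal V.toSubring).comap ψ
    have hP : P = IsLocalRing.maximalIdeal (locImg h) := by
      refine IsLocalRing.eq_maximalIdeal ?_
      have hPp : P.IsPrime := Ideal.comap_isPrime ψ _
      have := krullDimLE_locImg h hd
      refine (Ring.krullDimLE_one_iff_of_noZeroDivisors.1 this) P (fun hP0 => ?_) hPp
      have hall : ∀ z : X.presheaf.stalk η, z ∈ V.toSubring := fun z => by
        obtain ⟨b, d, hd0, rfl⟩ := IsFractionRing.div_surjective (A := locImg h) z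
        have hu : IsUnit (ψ d) := by
          rw [← IsLocalRing.notMem_maximalIdeal]
          intro hmem
          exact nonZeroDivisors.ne_zero hd0 (by simpa [hP0] using (show d ∈ P from hmem))
        obtain ⟨e, he⟩ := isUnit_iff_exists_inv.1 hu
        rw [div_eq_mul_inv]
        refine V.toSubring.mul_mem (ψ b).2 ?_
        show (d : X.presheaf.stalk η)⁻¹ ∈ V.toSubring
        rw [inv_eq_of_mul_eq_one_right (show (d : X.presheaf.stalk η) * e.1 = 1 from congrArg Subtype.val he)]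
        exact e.2
      have hy0' : (y : X.presheaf.stalk η) ≠ 0 := fun h0 => hy0 (Subtype.ext h0)
      refine ((ValuationSubring.inv_mem_nonunits_iff V).1 ?_).elim (fun h => inv_ne_zero hy0' h)
        (fun h => h (hall _))
      rw [inv_inv]
      exact hIV ⟨y, hyI, rfl⟩
    refine PrimeSpectrum.ext ?_
    show (IsLocalRing.maximalIdeal V.toSubring).comap fx.hom = _
    rw [hψ, ← Ideal.comap_comap]
    show P.comap _ = _
    rw [hP]
    exact IsLocalRing.eq_maximalIdeal (Ideal.comap_isMaximal_of_surjective _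
      (X.presheaf.stalkSpecializes h).hom.rangeRestrict_surjective)
  have h1 := congr($heq q)
  rw [Scheme.Hom.comp_apply, Scheme.Hom.comp_apply, hq, Scheme.fromSpecStalk_closedPoint] at h1
  exact hxU (h1 ▸ hU.range_fromSpec.subset ⟨_, rfl⟩)

end Generic

/-- A function on an affine open whose inverse vanishes at all the missing points. -/
theorem exists_pole [IsReduced X] [X.IsSeparated] (hfin : (genPts X).Finite) {U : X.Opens}
    (hU : IsAffineOpen U) (hG : genPts X ⊆ U) (hUc : ((U : Set X)ᶜ).Finite)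
    (hclosed : ∀ x : X, x ∉ U → IsClosed ({x} : Set X))
    (hloc : ∀ x : X, x ∉ U →
      IsNoetherianRing (X.presheaf.stalk x) ∧ ringKrullDim (X.presheaf.stalk x) ≤ 1) :
    ∃ a : Γ(X, U), ∀ x : X, x ∉ U → ∃ (V : X.Opens) (t : Γ(X, V)), x ∈ V ∧
      (∀ y ∈ V, y ∉ U → y = x) ∧ x ∉ X.basicOpen t ∧
      resR (inf_le_left : V ⊓ U ≤ V) t * resR (inf_le_right : V ⊓ U ≤ U) a = 1 := by
  classical
  have hK := fun {η : X} (hη : η ∈ genPts X) => isField_stalk_genPt hfin hη
  have : Finite (genPts X) := hfin.to_subtype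
  have := Fintype.ofFinite (genPts X)
  have hpole : ∀ η : genPts X, ∃ b : Γ(X, U), X.presheaf.germ U η.1 (hG η.2) b ≠ 0 ∧
      ∀ (x : X) (_ : x ∉ U) (h : η.1 ⤳ x), ∃ y : locImg h,
        y ∈ nonunits (locImg h) ∧ (y : X.presheaf.stalk η.1) * X.presheaf.germ U η.1 (hG η.2) b = 1 := by
    intro η
    letI : Field (X.presheaf.stalk η.1) := (hK η.2).toField
    have : Finite {x : X // x ∉ U ∧ η.1 ⤳ x} := (hUc.subset fun x hx => hx.1).to_subtype
    obtain ⟨r, ⟨e⟩⟩ := Finite.exists_equiv_fin {x : X // x ∉ U ∧ η.1 ⤳ x}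
    let B : Fin r → Subring (X.presheaf.stalk η.1) := fun i => locImg (e.symm i).2.2
    let A := (X.presheaf.germ U η.1 (hG η.2)).hom.range
    have hne : ∀ i, η.1 ≠ (e.symm i).1 := fun i h => (e.symm i).2.1 (h ▸ hG η.2)
    have : IsFractionRing A (X.presheaf.stalk η.1) :=
      isFractionRing_of_germ (hK η.2) hU (hG η.2) A le_rfl
    have : ∀ i, IsNoetherianRing (B i) := fun i =>
      have := (hloc _ (e.symm i).2.1).1
      isNoetherianRing_locImg _
    have : ∀ i, IsFractionRing (B i) (X.presheaf.stalk η.1) := fun i =>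
      isFractionRing_locImg (hK η.2) _
    have hsl : ∀ i, Finite (MaximalSpectrum (B i)) := fun i =>
      have := isLocalRing_locImg (e.symm i).2.2
      have : Subsingleton (MaximalSpectrum (B i)) := ⟨fun p q => MaximalSpectrum.ext
        ((IsLocalRing.eq_maximalIdeal p.2).trans (IsLocalRing.eq_maximalIdeal q.2).symm)⟩
      inferInstance
    obtain ⟨z, hzA, hz0, hz⟩ := S1640.result (X.presheaf.stalk η.1) A r B
      (fun i => ringKrullDim_locImg (hK η.2) _ (hne i) (hloc _ (e.symm i).2.1).2) hsl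
      (fun i => sup_eq_top (hK η.2) hU (hG η.2) (e.symm i).2.1 _ (hloc _ (e.symm i).2.1).2)
    obtain ⟨b, rfl⟩ := hzA
    refine ⟨b, hz0, fun x hx h => ?_⟩
    obtain ⟨i, hi⟩ : ∃ i, e.symm i = ⟨x, hx, h⟩ := ⟨_, e.symm_apply_apply _⟩
    obtain ⟨hmem, hjac⟩ := hz i
    have hBi : B i = locImg h := by
      show locImg (e.symm i).2.2 = locImg h
      generalize e.symm i = p at hi ⊢
      subst hi
      rfl
    have := isLocalRing_locImg (e.symm i).2.2
    have hnu : (⟨_, hmem⟩ : B i) ∈ nonunits (B i) := by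
      rw [IsLocalRing.jacobson_eq_maximalIdeal _ bot_ne_top] at hjac
      exact hjac
    clear hjac
    generalize B i = B' at hmem hnu hBi
    subst hBi
    exact ⟨⟨_, hmem⟩, hnu, inv_mul_cancel₀ hz0⟩
  choose b hb0 hby using hpole
  have hc := fun η : genPts X => exists_avoid hU hfin.toFinset
    (fun y hy => hG (hfin.mem_toFinset.1 hy)) (fun y hy => hfin.mem_toFinset.1 hy)
    (hfin.mem_toFinset.2 η.2)
  choose c hcη hcy using hc
  -- separating functions near the missing points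
  have hV : ∀ x : {x : X // x ∉ U}, ∃ V : X.Opens, IsAffineOpen V ∧ x.1 ∈ V := fun x => by
    obtain ⟨_, ⟨V, hV, rfl⟩, hxV, -⟩ :=
      X.isBasis_affineOpens.exists_subset_of_mem_open (Set.mem_univ x.1) isOpen_univ
    exact ⟨V, hV, hxV⟩
  choose Vx hVx hxVx using hV
  let F : X → Finset X := fun x => hfin.toFinset.filter (fun y => y ⤳ x)
  have hFV : ∀ (x : {x : X // x ∉ U}), ∀ y ∈ F x.1, y ∈ Vx x := fun x y hy =>
    (Finset.mem_filter.1 hy).2.mem_open (Vx x).2 (hxVx x)
  have he := fun (x : {x : X // x ∉ U}) (η : {η : genPts X // η.1 ⤳ x.1}) =>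
    exists_avoid (hVx x) (F x.1) (hFV x) (fun y hy => hfin.mem_toFinset.1 (Finset.mem_filter.1 hy).1)
      (η := η.1.1) (Finset.mem_filter.2 ⟨hfin.mem_toFinset.2 η.1.2, η.2⟩)
  choose e heη hey using he
  let ge : ∀ (x : {x : X // x ∉ U}) (η : {η : genPts X // η.1 ⤳ x.1}), X.presheaf.stalk η.1.1 :=
    fun x η => X.presheaf.germ (Vx x) η.1.1 (η.2.mem_open (Vx x).2 (hxVx x)) (e x η)
  let gc : ∀ η : genPts X, X.presheaf.stalk η.1 := fun η => X.presheaf.germ U η.1 (hG η.2) (c η)
  let gb : ∀ η : genPts X, X.presheaf.stalk η.1 := fun η => X.presheaf.germ U η.1 (hG η.2) (b η)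
  have hN : ∀ (x : {x : X // x ∉ U}) (η : {η : genPts X // η.1 ⤳ x.1}), ∃ N : ℕ, ∀ n ≥ N,
      ∃ d : locImg η.2, d ∈ nonunits (locImg η.2) ∧
        gb η.1 ^ n * (gc η.1 * (ge x η * (d : X.presheaf.stalk η.1.1))) = 1 := by
    intro x η
    letI : Field (X.presheaf.stalk η.1.1) := (hK η.1.2).toField
    have := (hloc _ x.2).1
    have := isNoetherianRing_locImg η.2
    have := isLocalRing_locImg η.2
    have := isFractionRing_locImg (hK η.1.2) η.2
    obtain ⟨y, hy, hyb⟩ := hby η.1 x.1 x.2 η.2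
    obtain ⟨N, hN⟩ := exists_pow_mul_mem (locImg η.2) (krullDimLE_locImg η.2 (hloc _ x.2).2) y hy
      (gc η.1 * ge x η)⁻¹
    refine ⟨N, fun n hn => ?_⟩
    obtain ⟨d, hd, hdeq⟩ := hN n hn
    refine ⟨d, hd, ?_⟩
    have hge : ge x η ≠ 0 := fun h0 =>
      (eq_zero_iff_notMem_basicOpen hfin η.1.2 _ _).1 h0 (heη x η)
    have hgc : gc η.1 ≠ 0 := fun h0 =>
      (eq_zero_iff_notMem_basicOpen hfin η.1.2 _ _).1 h0 (hcη η.1)
    rw [← hdeq, ← mul_assoc (gc η.1), ← mul_assoc, mul_comm (gb η.1 ^ n), mul_assoc,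
      ← mul_assoc (gb η.1 ^ n), ← mul_pow, mul_comm (gb η.1), hyb, one_pow, one_mul,
      mul_inv_cancel₀ (mul_ne_zero hgc hge)]
  choose N hN using hN
  have : Finite {x : X // x ∉ U} := hUc.to_subtype
  have := Fintype.ofFinite {x : X // x ∉ U}
  let n : ℕ := Finset.univ.sup fun x : {x : X // x ∉ U} => Finset.univ.sup fun η => N x η
  have hn : ∀ x η, N x η ≤ n := fun x η => (Finset.le_sup (f := fun η => N x η) (Finset.mem_univ η)).trans
    (Finset.le_sup (f := fun x : {x : X // x ∉ U} => Finset.univ.sup fun η => N x η) (Finset.mem_univ x))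
  let a : Γ(X, U) := ∑ η : genPts X, c η * b η ^ n
  refine ⟨a, fun x hx => ?_⟩
  let x' : {x : X // x ∉ U} := ⟨x, hx⟩
  have hd := fun η : {η : genPts X // η.1 ⤳ x} => hN x' η n (hn x' η)
  choose d hdm hdeq using hd
  have hlift : ∀ η : {η : genPts X // η.1 ⤳ x}, ∃ r : X.presheaf.stalk x,
      r ∈ nonunits (X.presheaf.stalk x) ∧ X.presheaf.stalkSpecializes η.2 r = (d η).1 := fun η => by
    obtain ⟨r, hr⟩ := (d η).2
    refine ⟨r, fun hu => hdm η ?_, hr⟩
    have := hu.map (X.presheaf.stalkSpecializes η.2).hom.rangeRestrict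
    rwa [show (X.presheaf.stalkSpecializes η.2).hom.rangeRestrict r = d η from Subtype.ext hr] at this
  choose r hrm hr using hlift
  let t₀ : X.presheaf.stalk x := ∑ η, X.presheaf.germ (Vx x') x (hxVx x') (e x' η) * r η
  have ht₀ : t₀ ∈ IsLocalRing.maximalIdeal (X.presheaf.stalk x) :=
    Ideal.sum_mem _ fun η _ => Ideal.mul_mem_left _ _ (hrm η)
  obtain ⟨W, hxW, t, ht⟩ := X.presheaf.exists_germ_eq t₀
  let P : X.Opens := ⟨(⋃ ξ ∈ {ξ | ξ ∈ genPts X ∧ ¬ ξ ⤳ x}, closure {ξ})ᶜ,
    ((hfin.subset fun _ h => h.1).isClosed_biUnion fun _ _ => isClosed_closure).isOpen_compl⟩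
  let Q : X.Opens := ⟨((U : Set X)ᶜ \ {x})ᶜ, by
    rw [← Set.biUnion_of_singleton ((U : Set X)ᶜ \ {x})]
    exact ((hUc.subset Set.sdiff_subset).isClosed_biUnion fun y hy => hclosed y hy.1).isOpen_compl⟩
  have hxP : x ∈ P := fun h => by
    obtain ⟨ξ, hξ, hxξ⟩ := Set.mem_iUnion₂.1 h
    exact hξ.2 (specializes_iff_mem_closure.2 hxξ)
  let V : X.Opens := W ⊓ P ⊓ Q
  have hVW : V ≤ W := inf_le_left.trans inf_le_left
  refine ⟨V, resR hVW t, ⟨⟨hxW, hxP⟩, fun h => h.2 rfl⟩, fun y hy hyU => by_contra fun hne => hy.2 ⟨hyU, hne⟩,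
    ?_, ?_⟩
  · rw [show resR hVW t = X.presheaf.map (homOfLE hVW).op t from rfl, Scheme.basicOpen_res]
    intro h
    have h2 := (Scheme.mem_basicOpen X t x hxW).1 h.2
    rw [ht] at h2
    exact ht₀ h2
  rw [resR_resR, ← sub_eq_zero]
  refine eq_zero_of_genPts _ fun η hη hmem => ?_
  have hηW : η ∈ V ⊓ U := X.basicOpen_le _ hmem
  have hηx : η ⤳ x := by_contra fun h =>
    hηW.1.1.2 (Set.mem_iUnion₂.2 ⟨η, ⟨hη, h⟩, subset_closure rfl⟩)
  have hunit := (Scheme.mem_basicOpen X _ η hηW).1 hmem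
  let η' : {η : genPts X // η.1 ⤳ x} := ⟨⟨η, hη⟩, hηx⟩
  have hge0 : ∀ ξ : {η : genPts X // η.1 ⤳ x}, ξ ≠ η' →
      X.presheaf.germ (Vx x') η (hηx.mem_open (Vx x').2 (hxVx x')) (e x' ξ) = 0 := fun ξ hξ => by
    refine (eq_zero_iff_notMem_basicOpen hfin hη _ _).2 (hey x' ξ η
      (Finset.mem_filter.2 ⟨hfin.mem_toFinset.2 hη, hηx⟩) fun h => hξ ?_)
    exact Subtype.ext (Subtype.ext h.symm)
  have hgc0 : ∀ ξ : genPts X, ξ ≠ η'.1 → X.presheaf.germ U η (hG hη) (c ξ) = 0 := fun ξ hξ => by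
    refine (eq_zero_iff_notMem_basicOpen hfin hη _ _).2 (hcy ξ η (hfin.mem_toFinset.2 hη) fun h => hξ ?_)
    exact Subtype.ext h.symm
  have h1 : X.presheaf.germ W η (hVW hηW.1) t = ge x' η' * (d η').1 := by
    rw [show X.presheaf.germ W η (hVW hηW.1) t = X.presheaf.stalkSpecializes hηx (X.presheaf.germ W x hxW t) from
      (ConcreteCategory.congr_hom (X.presheaf.germ_stalkSpecializes hxW hηx) t).symm, ht, map_sum,
      Finset.sum_eq_single η']
    · rw [map_mul, hr η']
      congr 1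
      exact ConcreteCategory.congr_hom (X.presheaf.germ_stalkSpecializes (hxVx x') hηx) _
    · intro ξ _ hξ
      rw [map_mul, show X.presheaf.stalkSpecializes hηx (X.presheaf.germ (Vx x') x (hxVx x') (e x' ξ)) =
        X.presheaf.germ (Vx x') η (hηx.mem_open (Vx x').2 (hxVx x')) (e x' ξ) from
        ConcreteCategory.congr_hom (X.presheaf.germ_stalkSpecializes (hxVx x') hηx) _, hge0 ξ hξ, zero_mul]
    · simp
  have h2 : X.presheaf.germ U η (hG hη) a = gc η'.1 * gb η'.1 ^ n := by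
    rw [map_sum, Finset.sum_eq_single η'.1]
    · rw [map_mul, map_pow]
    · intro ξ _ hξ
      rw [map_mul, hgc0 ξ hξ, zero_mul]
    · simp
  suffices hz : X.presheaf.germ (V ⊓ U) η hηW
      (resR ((inf_le_left : V ⊓ U ≤ V).trans hVW) t * resR (inf_le_right : V ⊓ U ≤ U) a - 1) = 0 by
    exact not_isUnit_zero (hz ▸ hunit)
  rw [map_sub, map_mul, map_one,
    show X.presheaf.germ (V ⊓ U) η hηW (resR _ t) = X.presheaf.germ W η (hVW hηW.1) t from
      X.presheaf.germ_res_apply (homOfLE _) η hηW t,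
    show X.presheaf.germ (V ⊓ U) η hηW (resR _ a) = X.presheaf.germ U η (hG hη) a from
      X.presheaf.germ_res_apply (homOfLE _) η hηW a, h1, h2, sub_eq_zero, ← hdeq η']
  ring

end Groth.Agent.VarPicOne
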